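import Groth.Agent.Dix.EllScheme
import Mathlib.AlgebraicGeometry.ValuativeCriterion

/-!
# Extending morphisms from curves, and isomorphisms from function fields
-/

set_option autoImplicit false

universe u

open CategoryTheory CategoryTheory.Limits AlgebraicGeometry

namespace K322.CurveIso

/-- The existence part of the valuative criterion. -/
theorem exists_lift {X Y : Scheme.{u}} (q : X ⟶ Y) [IsProper q] {R L : Type u} [CommRing R]
    [IsDomain R] [ValuationRing R] [Field L] [Algebra R L] [IsFractionRing R L]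
    (a : Spec (CommRingCat.of L) ⟶ X) (b : Spec (CommRingCat.of R) ⟶ Y)
    (h : a ≫ q = Spec.map (CommRingCat.ofHom (algebraMap R L)) ≫ b) :
    ∃ c : Spec (CommRingCat.of R) ⟶ X, c ≫ q = b ∧
      Spec.map (CommRingCat.ofHom (algebraMap R L)) ≫ c = a := by
  have h1 : IsProper q := inferInstance
  rw [IsProper.eq_valuativeCriterion] at h1
  let S : ValuativeCommSq q := { R := R, K := L, i₁ := a, i₂ := b, commSq := ⟨h⟩ }
  obtain ⟨l⟩ := (h1.1.1.1.existence S).exists_lift
  exact ⟨l.l, l.fac_right, l.fac_left⟩

/-- A morphism `Spec K(X) ⟶ Y` over `S` extends to `X` if all local rings of `X` are valuation rings and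
`Y` is proper over `S`. -/
theorem exists_hom_of_generic {S X Y : Scheme.{u}} (p : X ⟶ S) (q : Y ⟶ S) [IsIntegral X] [IsProper q]
    (hv : ∀ x : X, ValuationRing (X.presheaf.stalk x)) (ξ : Spec X.functionField ⟶ Y)
    (hξ : ξ ≫ q = X.fromSpecStalk (genericPoint X) ≫ p) :
    ∃ f : X ⟶ Y, f ≫ q = p ∧ X.fromSpecStalk (genericPoint X) ≫ f = ξ := by
  apply Groth.Agent.Dix.EllScheme.exists_hom_of_stalks p q ξ
  intro x
  have := hv x
  have h0 : Spec.map (CommRingCat.ofHom (algebraMap (X.presheaf.stalk x) X.functionField)) ≫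
      X.fromSpecStalk x = X.fromSpecStalk (genericPoint X) :=
      Scheme.SpecMap_stalkSpecializes_fromSpecStalk (genericPoint_specializes x)
  have h : ξ ≫ q = Spec.map (CommRingCat.ofHom (algebraMap (X.presheaf.stalk x) X.functionField)) ≫
      X.fromSpecStalk x ≫ p := by
    rw [hξ, ← h0, Category.assoc]
  exact @exists_lift _ _ q _ (X.presheaf.stalk x) X.functionField _ inferInstance inferInstance _ _
    inferInstance ξ (X.fromSpecStalk x ≫ p) h

/-- Proper integral schemes over `S` whose local rings are valuation rings are isomorphic if their function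
fields are. -/
theorem exists_iso_of_functionField {S X Y : Scheme.{u}} (p : X ⟶ S) (q : Y ⟶ S) [IsIntegral X] [IsIntegral Y]
    [IsProper p] [IsProper q] (hvX : ∀ x : X, ValuationRing (X.presheaf.stalk x))
    (hvY : ∀ y : Y, ValuationRing (Y.presheaf.stalk y)) (e : Spec X.functionField ≅ Spec Y.functionField)
    (he : e.hom ≫ Y.fromSpecStalk (genericPoint Y) ≫ q = X.fromSpecStalk (genericPoint X) ≫ p) :
    ∃ i : X ≅ Y, i.hom ≫ q = p ∧
      X.fromSpecStalk (genericPoint X) ≫ i.hom = e.hom ≫ Y.fromSpecStalk (genericPoint Y) := by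
  obtain ⟨f, hf, hf'⟩ := exists_hom_of_generic p q hvX (e.hom ≫ Y.fromSpecStalk (genericPoint Y))
    (by rw [Category.assoc, he])
  obtain ⟨g, hg, hg'⟩ := exists_hom_of_generic q p hvY (e.inv ≫ X.fromSpecStalk (genericPoint X))
    (by rw [Category.assoc, ← he, e.inv_hom_id_assoc])
  refine ⟨⟨f, g, ?_, ?_⟩, hf, hf'⟩
  · apply Groth.Agent.Dix.EllScheme.hom_ext_generic p p
    · rw [Category.assoc, hg, hf]
    · exact Category.id_comp _
    · rw [← Category.assoc, hf', Category.assoc, hg', e.hom_inv_id_assoc, Category.comp_id]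
  · apply Groth.Agent.Dix.EllScheme.hom_ext_generic q q
    · rw [Category.assoc, hf, hg]
    · exact Category.id_comp _
    · rw [← Category.assoc, hg', Category.assoc, hf', e.inv_hom_id_assoc, Category.comp_id]

/-- The homomorphism from the function field given by a morphism from a local scheme which sends the closed
point to the generic point. -/
theorem exists_functionField_factor {Z : Scheme.{u}} [IsIntegral Z] {L : CommRingCat.{u}} [IsLocalRing L]
    (ξ : Spec L ⟶ Z) (h : ξ (IsLocalRing.closedPoint L) = genericPoint Z) :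
    ∃ φ : Z.functionField ⟶ L, Spec.map φ ≫ Z.fromSpecStalk (genericPoint Z) = ξ := by
  refine ⟨Z.presheaf.stalkSpecializes (specializes_of_eq h) ≫ Scheme.stalkClosedPointTo ξ, ?_⟩
  rw [Spec.map_comp, Category.assoc, Scheme.SpecMap_stalkSpecializes_fromSpecStalk,
    Scheme.Spec_stalkClosedPointTo_fromSpecStalk]

end K322.CurveIso
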