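import Groth.Agent.Curves.K322.FrobTwist

/-!
# Purely inseparable quotients of smooth curves are Frobenius twists
-/

set_option autoImplicit false

universe u

open CategoryTheory CategoryTheory.Limits AlgebraicGeometry

namespace K322.FrobMain

open K322.FrobTwist

theorem specMap_ffMap {X Y : Scheme.{u}} [IsIntegral X] [IsIntegral Y] (f : X ⟶ Y)
    (e : f (genericPoint X) = genericPoint Y) :
    Spec.map (Y.presheaf.stalkSpecializes (specializes_of_eq e) ≫ f.stalkMap (genericPoint X)) ≫
      Y.fromSpecStalk (genericPoint Y) = X.fromSpecStalk (genericPoint X) ≫ f := by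
  rw [Spec.map_comp, Category.assoc, Scheme.SpecMap_stalkSpecializes_fromSpecStalk,
    Scheme.SpecMap_stalkMap_fromSpecStalk]

variable (k : Type u) [Field k] (p : ℕ) [Fact p.Prime] [ExpChar k p]

theorem exists_iso (X Y : Scheme.{u}) [IsIntegral X] [IsIntegral Y] (a : X ⟶ Spec (CommRingCat.of k))
    (b : Y ⟶ Spec (CommRingCat.of k)) [IsProper a] [IsProper b] [Smooth a]
    (hdX : topologicalKrullDim X = 1) (hdY : topologicalKrullDim Y = 1) (hnY : Pi1.IsNormalScheme Y)
    (f : X ⟶ Y) [IsFinite f] (hf : f ≫ b = a) (e : f (genericPoint X) = genericPoint Y)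
    (hpi : letI := ((Y.presheaf.stalkSpecializes (specializes_of_eq e) ≫ f.stalkMap (genericPoint X)).hom).toAlgebra
      IsPurelyInseparable Y.functionField X.functionField) :
    ∃ (r : ℕ) (i : Y ≅ pullback a (specFrob k p r)), i.hom ≫ pullback.snd a (specFrob k p r) = b := by
  let j : Y.functionField ⟶ X.functionField :=
    Y.presheaf.stalkSpecializes (specializes_of_eq e) ≫ f.stalkMap (genericPoint X)
  obtain ⟨cX, hcX⟩ := Spec.map_surjective (X.fromSpecStalk (genericPoint X) ≫ a)
  obtain ⟨cY, hcY⟩ := Spec.map_surjective (Y.fromSpecStalk (genericPoint Y) ≫ b)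
  have hcj : cX = cY ≫ j := by
    rw [← Spec.map_inj, Spec.map_comp, hcX, hcY, ← Category.assoc, specMap_ffMap f e, Category.assoc, hf]
  obtain ⟨t, ht⟩ := exists_sep a hdX.le cX hcX
  let _ : Algebra k X.functionField := cX.hom.toAlgebra
  let _ : Algebra k Y.functionField := cY.hom.toAlgebra
  let _ : Algebra Y.functionField X.functionField := j.hom.toAlgebra
  have : IsScalarTower k Y.functionField X.functionField := IsScalarTower.of_algebraMap_eq' (by
    change cX.hom = _
    rw [hcj]
    rfl)
  have hpi' : IsPurelyInseparable Y.functionField X.functionField := hpi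
  have hfin : Module.Finite Y.functionField X.functionField := finite_functionField f e inferInstance
  have hexp : ExpChar Y.functionField p :=
    expChar_of_injective_algebraMap (algebraMap k Y.functionField).injective p
  have hexp' : ExpChar X.functionField p :=
    expChar_of_injective_algebraMap (algebraMap k X.functionField).injective p
  have hp1 : 1 < p := (Fact.out : p.Prime).one_lt
  obtain ⟨r, hr⟩ := IsPurelyInseparable.finrank_eq_pow (F := Y.functionField) X.functionField p
  have hrange := K322.FrobField.pow_mem_range Y.functionField X.functionField p hp1 r hr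
  have hL := K322.FrobField.fieldRange_eq k Y.functionField X.functionField p hp1 r hr t ht
  have hjinj : Function.Injective j.hom := j.hom.injective
  -- the homomorphism `α`
  obtain ⟨α, hα⟩ : ∃ α : X.functionField ⟶ Y.functionField, ∀ x, j.hom (α.hom x) = x ^ p ^ r := by
    let E : Y.functionField ≃+* j.hom.range :=
      RingEquiv.ofBijective j.hom.rangeRestrict
        ⟨fun x y h => hjinj (congrArg Subtype.val h), j.hom.rangeRestrict_surjective⟩
    refine ⟨CommRingCat.ofHom
      (E.symm.toRingHom.comp ((iterateFrobenius X.functionField p r).codRestrict j.hom.range hrange)), ?_⟩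
    intro x
    have h1 := E.apply_symm_apply ((iterateFrobenius X.functionField p r).codRestrict j.hom.range hrange x)
    exact congrArg Subtype.val h1
  have hcond : cX ≫ α = CommRingCat.ofHom (iterateFrobenius k p r) ≫ cY := by
    ext x
    apply hjinj
    change j.hom (α.hom (cX.hom x)) = j.hom (cY.hom (iterateFrobenius k p r x))
    rw [hα, iterateFrobenius_def, map_pow, map_pow]
    congr 1
    rw [hcj]
    rfl
  -- the twist
  have hZi := isIntegral_twist k p r a
  have hZd := dim_twist k p r a
  set Z := pullback a (specFrob k p r) with hZ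
  let a' : Spec Y.functionField ⟶ X := Spec.map α ≫ X.fromSpecStalk (genericPoint X)
  let ξ : Spec Y.functionField ⟶ Z := pullback.lift a' (Spec.map cY) (by
    rw [Category.assoc, ← hcX, ← Spec.map_comp, hcond, Spec.map_comp])
  have hξ1 : ξ ≫ pullback.fst a (specFrob k p r) = a' := pullback.lift_fst _ _ _
  have hξ2 : ξ ≫ pullback.snd a (specFrob k p r) = Spec.map cY := pullback.lift_snd _ _ _
  have hgen : ξ (IsLocalRing.closedPoint Y.functionField) = genericPoint Z := by
    apply (isHomeomorph_fst k p r a).bijective.1
    rw [fst_genericPoint, ← Scheme.Hom.comp_apply, hξ1, Scheme.Hom.comp_apply]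
    have : Spec.map α (IsLocalRing.closedPoint Y.functionField) =
        IsLocalRing.closedPoint X.functionField :=
      Subsingleton.elim (α := PrimeSpectrum X.functionField) _ _
    rw [this]
    exact Scheme.fromSpecStalk_closedPoint
  obtain ⟨φ, hφ⟩ := K322.CurveIso.exists_functionField_factor ξ hgen
  obtain ⟨cZ, hcZ⟩ := Spec.map_surjective (Z.fromSpecStalk (genericPoint Z) ≫ pullback.snd a (specFrob k p r))
  have h1 : cY = cZ ≫ φ := by
    rw [← Spec.map_inj, Spec.map_comp, hcZ, ← Category.assoc, hφ, hξ2]
  let e' := fst_genericPoint k p r a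
  let β : X.functionField ⟶ Z.functionField :=
    X.presheaf.stalkSpecializes (specializes_of_eq e') ≫ (pullback.fst a (specFrob k p r)).stalkMap (genericPoint Z)
  have h2 : α = β ≫ φ := by
    rw [← Spec.map_inj, ← cancel_mono (X.fromSpecStalk (genericPoint X)), Spec.map_comp, Category.assoc,
      specMap_ffMap _ e', ← Category.assoc, hφ, hξ1]
  have hsurj : Function.Surjective φ.hom := by
    intro y
    have hy : j.hom y ∈ (IsScalarTower.toAlgHom k Y.functionField X.functionField).fieldRange := ⟨y, rfl⟩
    rw [hL] at hy
    have hle : (K322.FrobField.powField k X.functionField (p ^ r)).toSubfield ≤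
        (j.hom.comp φ.hom).fieldRange := by
      rw [IntermediateField.adjoin_toSubfield, Subfield.closure_le]
      rintro _ (⟨c, rfl⟩ | ⟨x, rfl⟩)
      · refine ⟨cZ.hom c, ?_⟩
        change j.hom (φ.hom (cZ.hom c)) = cX.hom c
        rw [hcj, h1]
        rfl
      · refine ⟨β.hom x, ?_⟩
        change j.hom (φ.hom (β.hom x)) = x ^ p ^ r
        rw [← hα]
        congr 1
        exact (congrArg (fun g => g.hom x) h2).symm
    obtain ⟨z, hz⟩ := hle hy
    exact ⟨z, hjinj hz⟩
  have hbij : Function.Bijective φ.hom := ⟨φ.hom.injective, hsurj⟩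
  have hiso : IsIso φ := by
    rw [ConcreteCategory.isIso_iff_bijective]
    exact hbij
  refine ⟨r, ?_⟩
  obtain ⟨i, hi, -⟩ := K322.CurveIso.exists_iso_of_functionField b (pullback.snd a (specFrob k p r))
    (stalk_val b hdY.le hnY)
    (Groth.Agent.Picfga.CurvePts.valuationRing_stalk (pullback.snd a (specFrob k p r)) (hZd.trans hdX).le)
    (asIso (Spec.map φ)) (by
      rw [asIso_hom, ← Category.assoc, hφ, hξ2, hcY])
  exact ⟨i, hi⟩

end K322.FrobMain
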