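import Mathlib.FieldTheory.PurelyInseparable.PerfectClosure
import Mathlib.FieldTheory.PurelyInseparable.Basic
import Mathlib.FieldTheory.IntermediateField.Algebraic
import Mathlib.RingTheory.Unramified.LocalStructure
import Mathlib.RingTheory.Unramified.Field
import Mathlib.RingTheory.AlgebraicIndependent.TranscendenceBasis
import Mathlib.RingTheory.Etale.Field

/-!
# Purely inseparable subextensions of a separably generated field of transcendence degree one
-/

set_option autoImplicit false

universe u v

open IntermediateField

namespace K322.FrobField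

variable (k L K : Type*) [Field k] [Field L] [Field K] [Algebra k L] [Algebra L K] [Algebra k K]
  [IsScalarTower k L K]

/-- The field generated by the constants and the `q`-th powers. -/
noncomputable abbrev powField (q : ℕ) : IntermediateField k K :=
  IntermediateField.adjoin k (Set.range fun x : K => x ^ q)

theorem pow_mem_range (p : ℕ) [ExpChar L p] [IsPurelyInseparable L K] [FiniteDimensional L K]
    (hp1 : 1 < p) (r : ℕ) (hr : Module.finrank L K = p ^ r) (x : K) : x ^ p ^ r ∈ (algebraMap L K).range := by
  obtain ⟨n, y, hy⟩ := IsPurelyInseparable.minpoly_eq_X_pow_sub_C L p x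
  have h1 : x ^ p ^ n = algebraMap L K y := by
    have := minpoly.aeval L x
    rw [hy] at this
    simpa [sub_eq_zero] using this
  have h2 : (minpoly L x).natDegree ≤ Module.finrank L K := minpoly.natDegree_le x
  have hpn : (minpoly L x).natDegree = p ^ n := by
    rw [hy, Polynomial.natDegree_X_pow_sub_C]
  rw [hpn, hr] at h2
  have h3 : n ≤ r := (Nat.pow_le_pow_iff_right hp1).1 h2
  refine ⟨y ^ p ^ (r - n), ?_⟩
  rw [map_pow, ← h1, ← pow_mul, ← pow_add, Nat.add_sub_cancel' h3]

theorem finrank_powField_le (p : ℕ) [ExpChar k p] (r : ℕ) (t : K)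
    (ht : Algebra.IsSeparable (IntermediateField.adjoin k {t}) K) :
    FiniteDimensional (powField k K (p ^ r)) K ∧ Module.finrank (powField k K (p ^ r)) K ≤ p ^ r := by
  have hp0 : 0 < p ^ r := pow_pos (expChar_pos k p) r
  set M := powField k K (p ^ r) with hM
  let F := IntermediateField.adjoin k {t}
  have : ExpChar F p := expChar_of_injective_algebraMap (algebraMap k F).injective p
  have h1 : IntermediateField.adjoin F (Set.range fun x : K => x ^ p ^ r) = ⊤ := by
    have := IntermediateField.adjoin_eq_adjoin_pow_expChar_pow_of_isSeparable' F K (Set.univ : Set K) p r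
    rw [Set.image_univ] at this
    rw [← this, IntermediateField.adjoin_univ]
  have h2 : IntermediateField.adjoin M {t} = ⊤ := by
    rw [eq_top_iff]
    rintro x -
    have hx : x ∈ IntermediateField.adjoin F (Set.range fun x : K => x ^ p ^ r) := h1 ▸ mem_top
    have h3 : (IntermediateField.adjoin F (Set.range fun x : K => x ^ p ^ r)).toSubfield ≤
        (IntermediateField.adjoin M {t}).toSubfield := by
      rw [IntermediateField.adjoin_toSubfield, Subfield.closure_le]
      rintro _ (⟨a, rfl⟩ | ⟨a, rfl⟩)
      · have ha : (algebraMap F K a) ∈ F := a.2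
        have h4 : F.toSubfield ≤ (IntermediateField.adjoin M {t}).toSubfield := by
          change (IntermediateField.adjoin k {t}).toSubfield ≤ _
          rw [IntermediateField.adjoin_toSubfield, Subfield.closure_le]
          rintro _ (⟨b, rfl⟩ | hb)
          · rw [IsScalarTower.algebraMap_apply k M K]
            exact (IntermediateField.adjoin M {t}).algebraMap_mem _
          · rw [Set.mem_singleton_iff] at hb
            rw [hb]
            exact IntermediateField.mem_adjoin_simple_self M t
        exact h4 ha
      · have h5 : a ^ p ^ r ∈ M := IntermediateField.subset_adjoin k _ ⟨a, rfl⟩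
        exact (IntermediateField.adjoin M {t}).algebraMap_mem ⟨_, h5⟩
    exact h3 hx
  have h6 : t ^ p ^ r ∈ M := IntermediateField.subset_adjoin k _ ⟨t, rfl⟩
  let P : Polynomial M := Polynomial.X ^ p ^ r - Polynomial.C ⟨t ^ p ^ r, h6⟩
  have hPmonic : P.Monic := Polynomial.monic_X_pow_sub_C _ hp0.ne'
  have hP : Polynomial.aeval t P = 0 := by
    simp only [P, map_sub, map_pow, Polynomial.aeval_X, Polynomial.aeval_C]
    rw [sub_eq_zero]
    rfl
  have hint : IsIntegral M t := ⟨P, hPmonic, hP⟩
  have hfin : FiniteDimensional M (IntermediateField.adjoin M {t}) :=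
    IntermediateField.adjoin.finiteDimensional hint
  have h7 : Module.finrank M K = (minpoly M t).natDegree := by
    rw [← IntermediateField.adjoin.finrank hint, h2, IntermediateField.finrank_top']
  have h8 : (minpoly M t).natDegree ≤ p ^ r := by
    refine (Polynomial.natDegree_le_of_dvd (minpoly.dvd M t hP) hPmonic.ne_zero).trans ?_
    rw [Polynomial.natDegree_X_pow_sub_C]
  refine ⟨?_, h7 ▸ h8⟩
  rw [h2] at hfin
  exact Module.Finite.equiv (IntermediateField.topEquiv (F := M) (E := K)).toLinearEquiv

/-- If `K` is separable over `k(t)` and purely inseparable of degree `p ^ r` over `L ⊇ k`, then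
`L = k K ^ (p ^ r)`. -/
theorem fieldRange_eq (p : ℕ) [ExpChar k p] (hp1 : 1 < p) (r : ℕ) [IsPurelyInseparable L K]
    [FiniteDimensional L K] (hr : Module.finrank L K = p ^ r) (t : K)
    (ht : Algebra.IsSeparable (IntermediateField.adjoin k {t}) K) :
    (IsScalarTower.toAlgHom k L K).fieldRange = powField k K (p ^ r) := by
  have : ExpChar L p := expChar_of_injective_algebraMap (algebraMap k L).injective p
  obtain ⟨h1, h2⟩ := finrank_powField_le k K p r t ht
  symm
  apply IntermediateField.eq_of_le_of_finrank_le'
  · rw [IntermediateField.adjoin_le_iff]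
    rintro _ ⟨x, rfl⟩
    obtain ⟨y, hy⟩ := pow_mem_range L K p hp1 r hr x
    exact ⟨y, hy⟩
  · refine h2.trans ?_
    rw [← hr]
    let e : L ≃+* (IsScalarTower.toAlgHom k L K).fieldRange :=
      (AlgEquiv.ofInjectiveField (IsScalarTower.toAlgHom k L K)).toRingEquiv
    refine le_of_eq ?_
    refine Algebra.finrank_eq_of_equiv_equiv e (RingEquiv.refl K) ?_
    ext x
    rfl

end K322.FrobField
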