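import Groth.Agent.Variety.K425.GenEtale
import Groth.Agent.S2680
import Mathlib.RingTheory.Unramified.LocalStructure
import Mathlib.RingTheory.AlgebraicIndependent.TranscendenceBasis
import Mathlib.RingTheory.Flat.TorsionFree

/-!
# Separating elements of smooth algebras of dimension at most one
-/

set_option autoImplicit false

universe u v

open IntermediateField

namespace K322.SepElt

/-- The fraction field of a smooth domain of dimension at most one over a field has a separating element. -/
theorem exists_separating (k A K : Type u) [Field k] [CommRing A] [IsDomain A] [Algebra k A] [Field K]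
    [Algebra A K] [IsFractionRing A K] [Algebra k K] [IsScalarTower k A K] [Algebra.Smooth k A]
    (hdim : ringKrullDim A ≤ 1) : ∃ t : K, Algebra.IsSeparable (IntermediateField.adjoin k {t}) K := by
  obtain ⟨f, hf, n, _, hst, hse⟩ := Algebra.IsSmoothAt.exists_isStandardEtale_mvPolynomial
    (R := k) (S := A) (p := (⊥ : Ideal A))
  have hf0 : f ≠ 0 := fun h => hf (by rw [h]; exact zero_mem _)
  set B := Localization.Away f with hB
  set P := MvPolynomial (Fin n) k with hP
  have hle : Submonoid.powers f ≤ nonZeroDivisors A := powers_le_nonZeroDivisors_of_noZeroDivisors hf0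
  have : IsDomain B := IsLocalization.isDomain_localization hle
  let _ : Algebra B K := (IsLocalization.lift (M := Submonoid.powers f) (S := B) (g := algebraMap A K)
    (fun y => IsUnit.mk0 _ (IsFractionRing.to_map_ne_zero_of_mem_nonZeroDivisors (hle y.2)))).toAlgebra
  have hABK : IsScalarTower A B K := IsScalarTower.of_algebraMap_eq fun a => (IsLocalization.lift_eq _ a).symm
  have : IsFractionRing B K := IsFractionRing.isFractionRing_of_isDomain_of_isLocalization
    (Submonoid.powers f) B K
  let _ : Algebra P K := ((algebraMap B K).comp (algebraMap P B)).toAlgebra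
  have : IsScalarTower P B K := IsScalarTower.of_algebraMap_eq' rfl
  have : IsScalarTower k P K := IsScalarTower.of_algebraMap_eq fun a => by
    rw [IsScalarTower.algebraMap_apply P B K, ← IsScalarTower.algebraMap_apply k P B,
      IsScalarTower.algebraMap_apply k A B, ← IsScalarTower.algebraMap_apply A B K,
      ← IsScalarTower.algebraMap_apply k A K]
  have hPB : Function.Injective (algebraMap P B) := by
    have : Module.Flat P B := inferInstance
    exact FaithfulSMul.algebraMap_injective P B
  have hPK : Function.Injective (algebraMap P K) :=
    (IsFractionRing.injective B K).comp hPB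
  let _ : Algebra (FractionRing P) K := (IsFractionRing.lift (A := P) (K := FractionRing P) hPK).toAlgebra
  have : IsScalarTower P (FractionRing P) K :=
    IsScalarTower.of_algebraMap_eq fun a => (IsFractionRing.lift_algebraMap hPK a).symm
  have hsep : Algebra.IsSeparable (FractionRing P) K :=
    K425.GenEtale.isSeparable_of_formallyUnramified P B (FractionRing P) K
  let x : Fin n → K := fun i => algebraMap P K (MvPolynomial.X i)
  have hx : (MvPolynomial.aeval x : P →ₐ[k] K) = IsScalarTower.toAlgHom k P K := by
    ext i
    rw [MvPolynomial.aeval_X]
    rfl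
  have hind : AlgebraicIndependent k x := by
    rw [algebraicIndependent_iff_injective_aeval, hx]
    exact hPK
  have hn : n ≤ 1 := by
    obtain ⟨m, hm1, hm2, -⟩ := Groth.Agent.S2680.result k A
    have e : FractionRing A ≃ₐ[k] K := (FractionRing.algEquiv A K).restrictScalars k
    have h1 : Algebra.trdeg k K = m := by
      rw [← hm1]
      exact e.symm.trdeg_eq
    have h2 := hind.lift_cardinalMk_le_trdeg
    rw [h1, Cardinal.mk_fin] at h2
    simp only [Cardinal.lift_natCast] at h2
    rw [hm2] at hdim
    have h3 : m ≤ 1 := by exact_mod_cast hdim
    exact (by exact_mod_cast h2 : n ≤ m).trans h3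
  obtain ⟨t, ht⟩ : ∃ t : K, ∀ i, x i = t := by
    rcases Nat.eq_zero_or_pos n with h | h
    · refine ⟨0, fun i => ?_⟩
      exact absurd i.2 (by omega)
    · refine ⟨x ⟨0, h⟩, fun i => ?_⟩
      congr 1
      ext
      have := i.2
      simp
      omega
  refine ⟨t, ?_⟩
  let F := IntermediateField.adjoin k {t}
  let y : Fin n → F := fun i => ⟨x i, by rw [ht i]; exact IntermediateField.mem_adjoin_simple_self k t⟩
  let ψ : P →+* F := (MvPolynomial.aeval y : P →ₐ[k] F).toRingHom
  have hψ : ∀ a, algebraMap F K (ψ a) = algebraMap P K a := by
    intro a
    have : (IsScalarTower.toAlgHom k F K).comp (MvPolynomial.aeval y : P →ₐ[k] F) =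
        IsScalarTower.toAlgHom k P K := by
      rw [← hx]
      ext i
      simp [y]
    exact congrArg (fun g : P →ₐ[k] K => g a) this
  have hψinj : Function.Injective ψ := by
    intro a b hab
    apply hPK
    rw [← hψ, ← hψ, hab]
  let _ : Algebra (FractionRing P) F := (IsFractionRing.lift (A := P) (K := FractionRing P) hψinj).toAlgebra
  have : IsScalarTower (FractionRing P) F K := by
    refine IsScalarTower.of_algebraMap_eq' ?_
    refine IsLocalization.ringHom_ext (nonZeroDivisors P) ?_
    refine RingHom.ext fun a => ?_
    · change algebraMap (FractionRing P) K (algebraMap P (FractionRing P) _) = _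
      rw [← IsScalarTower.algebraMap_apply P (FractionRing P) K, ← hψ]
      exact congrArg (algebraMap F K)
        (IsFractionRing.lift_algebraMap (K := FractionRing P) hψinj a).symm
  exact Algebra.isSeparable_tower_top_of_isSeparable (FractionRing P) F K

end K322.SepElt
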