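import Groth.Agent.Curves.K322.CurveIso
import Groth.Agent.Curves.K322.SepElt
import Groth.Agent.Curves.K322.FrobField
import Groth.Agent.Picfga.CurvePts
import Groth.Prelude.Def_Pi1
import Mathlib.FieldTheory.IntermediateField.Adjoin.Algebra
import Mathlib.AlgebraicGeometry.Morphisms.UniversallyInjective

/-!
# Purely inseparable morphisms of curves and Frobenius twists
-/

set_option autoImplicit false

universe u

open CategoryTheory CategoryTheory.Limits AlgebraicGeometry

namespace K322.FrobTwist

section frob

variable (k : Type u) [Field k] (p : ℕ) [Fact p.Prime] [ExpChar k p] (r : ℕ)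

/-- the Frobenius of the spectrum of a field -/
noncomputable abbrev specFrob : Spec (CommRingCat.of k) ⟶ Spec (CommRingCat.of k) :=
  Spec.map (CommRingCat.ofHom (iterateFrobenius k p r))

instance : UniversallyInjective (specFrob k p r) := by
  refine ((tfae_universallyInjective (specFrob k p r)).out 0 1).mpr ?_
  intro K _ a b hab
  obtain ⟨φ, rfl⟩ := Spec.map_surjective a
  obtain ⟨ψ, rfl⟩ := Spec.map_surjective b
  congr 1
  ext x
  simp only [← Spec.map_comp] at hab
  have h1 := congrArg (fun g => CommRingCat.Hom.hom g x) (Spec.map_injective hab)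
  change φ.hom (iterateFrobenius k p r x) = ψ.hom (iterateFrobenius k p r x) at h1
  rw [iterateFrobenius_def, map_pow, map_pow] at h1
  have : ExpChar K p := expChar_of_injective_ringHom φ.hom.injective p
  exact iterateFrobenius_inj K p r h1

instance : Surjective (specFrob k p r) := by
  constructor
  intro y
  obtain ⟨x⟩ : Nonempty (PrimeSpectrum k) := inferInstance
  exact ⟨x, Subsingleton.elim (α := PrimeSpectrum k) _ _⟩

instance : IsIntegralHom (specFrob k p r) := by
  rw [IsIntegralHom.SpecMap_iff]
  intro x
  refine ⟨Polynomial.X ^ p ^ r - Polynomial.C x, ?_, ?_⟩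
  · exact Polynomial.monic_X_pow_sub_C _ (pow_pos (expChar_pos k p) r).ne'
  · simp [iterateFrobenius_def]

theorem isHomeomorph_fst {X : Scheme.{u}} (a : X ⟶ Spec (CommRingCat.of k)) :
    IsHomeomorph (pullback.fst a (specFrob k p r)) := by
  have : UniversallyInjective (pullback.fst a (specFrob k p r)) :=
    MorphismProperty.pullback_fst _ _ inferInstance
  rw [isHomeomorph_iff_continuous_isClosedMap_bijective]
  exact ⟨Scheme.Hom.continuous _, Scheme.Hom.isClosedMap _, Scheme.Hom.injective _, Scheme.Hom.surjective _⟩

variable {X : Scheme.{u}} (a : X ⟶ Spec (CommRingCat.of k))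

theorem irreducibleSpace_twist [IrreducibleSpace X] :
    IrreducibleSpace ↑(pullback a (specFrob k p r)) :=
  (isHomeomorph_fst k p r a).homeomorph.symm.surjective.irreducibleSpace
    (isHomeomorph_fst k p r a).homeomorph.symm.continuous

theorem isIntegral_twist [IsIntegral X] [Smooth a] : IsIntegral (pullback a (specFrob k p r)) := by
  have := irreducibleSpace_twist k p r a
  have : IsReduced (pullback a (specFrob k p r)) :=
    Groth.Agent.Dix.EllScheme.isReduced_of_smooth (pullback.snd a (specFrob k p r))
  exact isIntegral_of_irreducibleSpace_of_isReduced _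

theorem dim_twist : topologicalKrullDim ↑(pullback a (specFrob k p r)) = topologicalKrullDim X :=
  IsHomeomorph.topologicalKrullDim_eq _ (isHomeomorph_fst k p r a)

theorem fst_genericPoint [IsIntegral X] [Smooth a] :
    haveI := isIntegral_twist k p r a
    pullback.fst a (specFrob k p r) (genericPoint ↑(pullback a (specFrob k p r))) = genericPoint X := by
  haveI := isIntegral_twist k p r a
  have h := (genericPoint_spec ↑(pullback a (specFrob k p r))).image
    (pullback.fst a (specFrob k p r)).continuous
  rw [Set.image_univ, (pullback.fst a (specFrob k p r)).surjective.range_eq, closure_univ] at h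
  exact h.eq (genericPoint_spec X)

end frob

theorem stalk_val {k : Type u} [Field k] {X : Scheme.{u}} [IsIntegral X]
    (f : X ⟶ Spec (CommRingCat.of k)) [LocallyOfFiniteType f] (hdim : topologicalKrullDim X ≤ 1)
    (hX : Pi1.IsNormalScheme X) (x : X) : ValuationRing (X.presheaf.stalk x) := by
  have : IsLocallyNoetherian X := LocallyOfFiniteType.isLocallyNoetherian f
  haveI := (hX x).2
  haveI := Groth.Agent.Picfga.CurvePts.dimensionLEOne_stalk hdim x
  haveI : IsNoetherianRing (X.presheaf.stalk x) := inferInstance
  have hded : IsDedekindDomain (X.presheaf.stalk x) := { }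
  exact ((tfae_of_isNoetherianRing_of_isLocalRing_of_isDomain (X.presheaf.stalk x)).out 2 1).mp hded

theorem finite_functionField {X Y : Scheme.{u}} [IsIntegral X] [IsIntegral Y] (f : X ⟶ Y) [LocallyOfFiniteType f]
    (e : f (genericPoint X) = genericPoint Y)
    (h : @Algebra.IsAlgebraic Y.functionField X.functionField _ _ (K425.GenEtale.ffMap f e).toAlgebra) :
    @Module.Finite Y.functionField X.functionField _ _ (K425.GenEtale.ffMap f e).toAlgebra.toModule := by
  obtain ⟨V, W, hV, hW, i, hηV, hξW, hWU⟩ := K425.GenEtale.exists_chart f e ⊤ ⟨genericPoint X, trivial⟩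
  have : Nonempty V := ⟨⟨_, hηV⟩⟩
  have : Nonempty W := ⟨⟨_, hξW⟩⟩
  let _ : Algebra Γ(Y, V) Γ(X, W) := (f.appLE V W i).hom.toAlgebra
  let _ : Algebra Y.functionField X.functionField := (K425.GenEtale.ffMap f e).toAlgebra
  let _ : Algebra Γ(Y, V) X.functionField :=
    ((algebraMap Γ(X, W) X.functionField).comp (algebraMap Γ(Y, V) Γ(X, W))).toAlgebra
  have : IsScalarTower Γ(Y, V) Γ(X, W) X.functionField := IsScalarTower.of_algebraMap_eq' rfl
  have : IsScalarTower Γ(Y, V) Y.functionField X.functionField :=
    IsScalarTower.of_algebraMap_eq fun a => (K425.GenEtale.ffMap_germ f e i hηV hξW a).symm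
  have : IsFractionRing Γ(X, W) X.functionField := functionField_isFractionRing_of_isAffineOpen X W hW
  have hft : (f.appLE V W i).hom.FiniteType := f.finiteType_appLE hV hW i
  have : Algebra.FiniteType Γ(Y, V) Γ(X, W) := hft
  have h4 : Algebra.EssFiniteType Γ(X, W) X.functionField :=
    Algebra.EssFiniteType.of_isLocalization _ (nonZeroDivisors Γ(X, W))
  have h5 : Algebra.EssFiniteType Γ(Y, V) X.functionField := Algebra.EssFiniteType.comp _ Γ(X, W) _
  have h6 : Algebra.EssFiniteType Y.functionField X.functionField := Algebra.EssFiniteType.of_comp Γ(Y, V) _ _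
  exact Algebra.finite_of_essFiniteType_of_isAlgebraic


/-- The function field of a smooth curve has a separating element. -/
theorem exists_sep {k : Type u} [Field k] {X : Scheme.{u}} [IsIntegral X]
    (a : X ⟶ Spec (CommRingCat.of k)) [Smooth a] (hdim : topologicalKrullDim X ≤ 1)
    (c : CommRingCat.of k ⟶ X.functionField) (hc : Spec.map c = X.fromSpecStalk (genericPoint X) ≫ a) :
    letI := c.hom.toAlgebra
    ∃ t : X.functionField, Algebra.IsSeparable (IntermediateField.adjoin k {t}) X.functionField := by
  obtain ⟨_, ⟨W, hW, rfl⟩, hηW, -⟩ := X.isBasis_affineOpens.exists_subset_of_mem_open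
    (Set.mem_univ (genericPoint X)) isOpen_univ
  have hηW' : genericPoint X ∈ W := hηW
  have : Nonempty W := ⟨⟨_, hηW⟩⟩
  obtain ⟨φ, hφ⟩ := Spec.map_surjective (hW.fromSpec ≫ a)
  have h1 : c = φ ≫ X.presheaf.germ W _ hηW := by
    rw [← Spec.map_inj, hc, Spec.map_comp, hφ, ← hW.fromSpecStalk_eq_fromSpecStalk hηW,
      IsAffineOpen.fromSpecStalk, Category.assoc]
  have hsm : Smooth (Spec.map φ) := by rw [hφ]; infer_instance
  rw [HasRingHomProperty.Spec_iff (P := @Smooth)] at hsm
  let _ : Algebra k X.functionField := c.hom.toAlgebra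
  let _ : Algebra k Γ(X, W) := φ.hom.toAlgebra
  have : IsScalarTower k Γ(X, W) X.functionField := IsScalarTower.of_algebraMap_eq' (by
    change c.hom = _
    rw [h1]
    rfl)
  have : IsFractionRing Γ(X, W) X.functionField := functionField_isFractionRing_of_isAffineOpen X W hW
  have : Algebra.Smooth k Γ(X, W) := hsm
  have hd : ringKrullDim Γ(X, W) ≤ 1 := by
    rw [← PrimeSpectrum.topologicalKrullDim_eq_ringKrullDim]
    refine le_trans ?_ hdim
    exact Topology.IsInducing.topologicalKrullDim_le hW.fromSpec.isOpenEmbedding.isInducing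
  exact K322.SepElt.exists_separating k Γ(X, W) X.functionField hd

end K322.FrobTwist
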