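import Groth.Agent.CurvesB.SepLift
import Groth.Agent.CurvesB.TwistIdeal
import Groth.Agent.S1570
import Groth.Agent.Old.H24.LinearSeries
import Groth.Agent.Sga7.H591.DivDeg
import Groth.Agent.Dix.InterNum
import Groth.Agent.Dix.IdealModCartier
import Groth.Agent.S1564
import Mathlib.AlgebraicGeometry.IdealSheaf.Functorial

/-!
# Base points of invertible modules on a regular curve
-/

set_option autoImplicit false

universe u

open CategoryTheory CategoryTheory.Limits AlgebraicGeometry TopologicalSpace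

namespace K322.BasePt

open Groth.Agent Groth.Agent.Ega2 Groth.Agent.CurvesB Groth.Agent.CurvesB.SepLift
open Groth.Agent.Fdesc.LocGen (res ores res_res ores_ores res_smul app_res IsGen)

variable {X : Scheme.{u}}

/-- The ideal sheaf of a closed point. -/
noncomputable def pt (x : X) (hx : IsClosed ({x} : Set X)) : X.IdealSheafData :=
  Scheme.IdealSheafData.vanishingIdeal ⟨{x}, hx⟩

theorem support_pt (x : X) (hx : IsClosed ({x} : Set X)) : ((pt x hx).support : Set X) = {x} :=
  Scheme.IdealSheafData.coe_support_vanishingIdeal _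

theorem app_eq_zero {x : X} (hx : IsClosed ({x} : Set X)) {U : X.Opens} (hU : IsAffineOpen U)
    (a : Γ(X, U)) (ha : x ∉ X.basicOpen a) : (pt x hx).subschemeι.app U a = 0 := by
  have h1 : a ∈ (pt x hx).ideal ⟨U, hU⟩ := by
    rw [pt, Scheme.IdealSheafData.vanishingIdeal_ideal, PrimeSpectrum.mem_vanishingIdeal]
    intro p hp
    by_contra h
    apply ha
    have h2 : p ∈ hU.fromSpec ⁻¹ᵁ X.basicOpen a := by
      rw [hU.fromSpec_preimage_basicOpen]
      exact h
    have h3 : hU.fromSpec p = x := hp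
    rw [← h3]
    exact h2
  have h2 : (pt x hx).subschemeι.ker.ideal ⟨U, hU⟩ = RingHom.ker ((pt x hx).subschemeι.app U).hom :=
    Scheme.Hom.ker_apply _ _
  rw [Scheme.IdealSheafData.ker_subschemeι] at h2
  rw [h2] at h1
  exact h1

/-- If no section of `L` generates at `x`, all sections vanish in `L / I_x L`. -/
theorem pr_eq_zero {x : X} (hx : IsClosed ({x} : Set X)) {L : X.Modules} (hL : PicF.IsInvertible L)
    (h : ∀ s : Coh.structureModule X ⟶ L, x ∉ CohB1.genLocus L s) (l : Γ(L, ⊤)) :
    (pr (pt x hx) L).app ⊤ l = 0 := by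
  refine Tens.eq_of_locally_eq _ _ _ fun y hy => ?_
  by_cases hyx : y = x
  · subst hyx
    obtain ⟨V, e, hxV, hVU, hVaff, he⟩ := TensGen.exists_affine_gen hL y hy
    refine ⟨V, homOfLE hVU, hxV, ?_⟩
    obtain ⟨a, ha⟩ := he.exists_eq (res L hVU l)
    change res _ hVU ((pr (pt y hx) L).app ⊤ l) = res _ hVU 0
    rw [← app_res, ha, map_zero]
    apply pr_eq_zero_of_coeff
    apply app_eq_zero hx hVaff
    intro hmem
    let s : Coh.structureModule X ⟶ L := CurvesB.Pairing.secHom L l
    apply h s
    have h1 : CohB1.genLocus L s ⊓ V = X.basicOpen a := by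
      apply Fdesc.LocGen.genLocus_inf_eq s he
      change s.app V (1 : Γ(X, V)) = a • e
      rw [CurvesB.Pairing.secHom_app, one_smul]
      exact ha
    rw [← h1] at hmem
    exact hmem.1
  · refine ⟨⟨({x} : Set X)ᶜ, hx.isOpen_compl⟩, homOfLE le_top, hyx, ?_⟩
    change res _ le_top ((pr (pt x hx) L).app ⊤ l) = res _ le_top 0
    rw [← app_res, map_zero]
    apply pr_eq_zero_of_disjoint _ hL
    intro z hz hz'
    have h2 : z ∈ ((pt x hx).support : Set X) := hz'
    rw [support_pt] at h2
    exact hz h2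

section field

variable (k : Type u) [Field k] [X.Over (Spec (CommRingCat.of k))]

/-- At a base point `x` of `L`, `h⁰(I_x ⊗ L) = h⁰(L)`. -/
theorem finrank_eq {x : X} (hx : IsClosed ({x} : Set X)) {L : X.Modules} (hL : PicF.IsInvertible L)
    (h : ∀ s : Coh.structureModule X ⟶ L, x ∉ CohB1.genLocus L s) :
    Module.finrank k (Coh.HH X (CohB1.tensorMod (ClSub.idealMod (pt x hx)) L) 0) =
      Module.finrank k (Coh.HH X L 0) := by
  have hS := sc_shortExact (pt x hx) hL
  have h1 := VarietyA.EulerLES.injectiveA₀ (A := k) _ hS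
  have h2 : Function.Surjective (VarietyA.EulerLES.mapA k (sc (pt x hx) L).f 0) := by
    intro y
    refine ((VarietyA.EulerLES.exactA₂ (A := k) _ hS 0) y).1 ?_
    apply (HZero.equivAdd _).injective
    rw [map_zero]
    refine (HZero.equivAdd_map _ _).trans ?_
    exact pr_eq_zero hx hL h _
  exact (LinearEquiv.ofBijective _ ⟨h1, h2⟩).finrank_eq

variable {k}

omit [X.Over (Spec (CommRingCat.of k))] in
/-- On an integral locally Noetherian scheme whose local rings are principal ideal domains, an ideal sheaf with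
support different from the whole space is effective Cartier. -/
theorem isEff_of_support_ne [IsIntegral X] [IsLocallyNoetherian X]
    (hX : ∀ x : X, IsPrincipalIdealRing (X.presheaf.stalk x)) (D : X.IdealSheafData)
    (hD : D.support ≠ ⊤) : BlowUp.IsEffCartierIdeal D := by
  refine Groth.Agent.S1570.result X D fun x hx U hU => ?_
  obtain ⟨g, hg⟩ := ((hX x).principal ((D.ideal U).map (X.presheaf.germ U x hU).hom)).principal
  refine ⟨g, ?_, hg⟩
  rw [mem_nonZeroDivisors_iff_ne_zero]
  rintro rfl
  have h0 : (D.ideal U).map (X.presheaf.germ U x hU).hom = ⊥ := by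
    rw [hg]; exact Ideal.span_singleton_eq_bot.mpr rfl
  have h1 : D.ideal U = ⊥ := by
    rw [eq_bot_iff]
    intro a ha
    have h2 : (X.presheaf.germ U x hU).hom a ∈ (⊥ : Ideal (X.presheaf.stalk x)) := by
      rw [← h0]; exact Ideal.mem_map_of_mem _ ha
    rw [Ideal.mem_bot] at h2
    have h3 := germ_injective_of_isIntegral X x hU
    exact h3 (by rw [map_zero]; exact h2)
  have h2 : (U.1 : Set X) ⊆ D.support := by
    intro y hy
    have : y ∈ D.support := by
      rw [Scheme.IdealSheafData.mem_support_iff_of_mem hy, h1]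
      simp
    exact this
  apply hD
  rw [eq_top_iff]
  have h3 : closure (U.1 : Set X) ⊆ D.support := D.support.isClosed.closure_subset_iff.mpr h2
  rw [(U.1.isOpen.dense ⟨x, hU⟩).closure_eq] at h3
  intro y _
  exact h3 (Set.mem_univ y)

theorem isEff_pt [IsIntegral X] [IsLocallyNoetherian X]
    (hX : ∀ x : X, IsPrincipalIdealRing (X.presheaf.stalk x))
    {x : X} (hx : IsClosed ({x} : Set X)) (hne : x ≠ genericPoint X) :
    BlowUp.IsEffCartierIdeal (pt x hx) := by
  apply isEff_of_support_ne hX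
  intro h
  apply hne
  have h1 : genericPoint X ∈ ((pt x hx).support : Set X) := by rw [h]; trivial
  rw [support_pt] at h1
  exact h1.symm

variable (k)

variable [IsIntegral X] [IsProper (X ↘ (Spec (CommRingCat.of k)))]

/-- The degree of a closed point, as `h⁰(O_x)`. -/
noncomputable def dx (x : X) (hx : IsClosed ({x} : Set X)) : ℕ :=
  Module.finrank k (Coh.HH X (ClSub.quotMod (pt x hx)) 0)

omit [IsIntegral X] in
theorem dx_pos {x : X} (hx : IsClosed ({x} : Set X)) : 0 < dx k x hx :=
  Sga7.H591.DivDeg.finrank_quotMod_pos k X (pt x hx) (by rw [support_pt]; exact Set.singleton_nonempty x)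

theorem deg_pt (hdim : topologicalKrullDim X = 1) (hX : ∀ x : X, IsPrincipalIdealRing (X.presheaf.stalk x))
    {x : X} (hx : IsClosed ({x} : Set X)) (hne : x ≠ genericPoint X) :
    Curv2.deg k X (ClSub.idealMod (pt x hx)) 1 = - dx k x hx := by
  have hN : IsNoetherian X := VarietyB.DegFin.isNoetherian_of_isProper k X
  have hE := isEff_pt hX hx hne
  have hI := (Groth.Agent.Dix.IdealModCartier.isInvertible_idealMod_iff (pt x hx)).2 hE
  obtain ⟨L, hL, hLc⟩ := Grpsch.PicGrp.exists_mk (Grpsch.PicGrp.mk _ hI)⁻¹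
  have h1 : ClSub.IsInverseOf L (ClSub.idealMod (pt x hx)) := by
    have h2 : Grpsch.PicGrp.mk L hL * Grpsch.PicGrp.mk _ hI = 1 := by rw [← hLc, inv_mul_cancel]
    rw [Grpsch.PicGrp.mk_mul_mk, Grpsch.PicGrp.mk_eq_one_iff] at h2
    exact h2
  have h3 := Dix.InterNum.deg_of_effCartier k X hdim (pt x hx) hE L h1
  have h4 := Dix.InterNum.deg_inverse k X hdim h1
  rw [h3] at h4
  rw [dx]
  linarith

theorem deg_pt_tensor (hdim : topologicalKrullDim X = 1)
    (hX : ∀ x : X, IsPrincipalIdealRing (X.presheaf.stalk x))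
    {x : X} (hx : IsClosed ({x} : Set X)) (hne : x ≠ genericPoint X) {L : X.Modules}
    (hL : PicF.IsInvertible L) :
    PicF.IsInvertible (CohB1.tensorMod (ClSub.idealMod (pt x hx)) L) ∧
    Curv2.deg k X (CohB1.tensorMod (ClSub.idealMod (pt x hx)) L) 1 = Curv2.deg k X L 1 - dx k x hx := by
  have hN : IsNoetherian X := VarietyB.DegFin.isNoetherian_of_isProper k X
  have hE := isEff_pt hX hx hne
  have hI := (Groth.Agent.Dix.IdealModCartier.isInvertible_idealMod_iff (pt x hx)).2 hE
  refine ⟨Fdesc.LocGen.isInvertible_tensorMod hI hL, ?_⟩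
  rw [Dix.InterNum.deg_tensor k X hdim hI hL, deg_pt k hdim hX hx hne]
  ring

/-- An invertible module with `h⁰(L) ≥ deg L ≥ 2` on a curve of positive genus has no base points. -/
theorem basePointFree (hdim : topologicalKrullDim X = 1)
    (hX : ∀ x : X, IsPrincipalIdealRing (X.presheaf.stalk x))
    (h0 : Module.finrank k (Coh.HH X (Coh.structureModule X) 0) = 1) (hg : 1 ≤ Curv2.genus k X)
    {L : X.Modules} (hL : PicF.IsInvertible L) (hdeg : 2 ≤ Curv2.deg k X L 1)
    (hh : Curv2.deg k X L 1 ≤ Module.finrank k (Coh.HH X L 0))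
    {x : X} (hx : IsClosed ({x} : Set X)) (hne : x ≠ genericPoint X) :
    ∃ s : Coh.structureModule X ⟶ L, x ∈ CohB1.genLocus L s := by
  by_contra hcon
  push Not at hcon
  have h1 := finrank_eq k hx hL hcon
  obtain ⟨hI, h2⟩ := deg_pt_tensor k hdim hX hx hne hL
  have h3 := dx_pos k hx
  have hnt : Nontrivial (Coh.HH X (CohB1.tensorMod (ClSub.idealMod (pt x hx)) L) 0) := by
    apply Module.nontrivial_of_finrank_pos (R := k)
    rw [h1]
    omega
  obtain ⟨h4, h5⟩ := Groth.Agent.S1564.result k X hdim h0 _ hI hnt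
  rw [h1, h2] at h4
  have h6 : (Module.finrank k (Coh.HH X (CohB1.tensorMod (ClSub.idealMod (pt x hx)) L) 0) : ℤ) =
      Curv2.deg k X (CohB1.tensorMod (ClSub.idealMod (pt x hx)) L) 1 + 1 := by
    rw [h1, h2]
    omega
  have h7 := h5 h6 (by rw [h2]; omega)
  omega

end field

end K322.BasePt
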