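import Groth.Agent.Curves.K321.DeltaAlg
import Groth.Agent.Curves.K321.DeltaGeo
import Groth.Agent.Curves.K830.MultiCross
import Groth.Agent.Divis.WeakAssPush

/-!
# Branches and points of the normalization

* `numBranches_eq`: for `A₀ → B₀` injective, integral, `B₀` normal, an isomorphism after inverting a non-zero-divisor,
  the number of branches of the local ring of `A₀` at a prime is the number of primes of `B₀` over it;
* `numBranchesAt_eq`: `numBranchesAt X x = #π⁻¹(x)` for `π : X' ⟶ X` finite, `X'` normal, `X` reduced, `π` an isomorphism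
  over a dense open with dense preimage.
-/

set_option autoImplicit false
universe u

open CategoryTheory CategoryTheory.Limits AlgebraicGeometry TopologicalSpace Opposite
open scoped nonZeroDivisors

namespace K322.BranchFib

open Groth.Agent K321.DeltaAlg K421.NormCl

section

variable (A B : Type u) [CommRing A] [CommRing B] [Algebra A B]

/-- The normal closure. -/
theorem nonempty_equiv [Algebra.IsIntegral A B] (hB : EGA4.IsNormalRing B)
    (hinj : Function.Injective (algebraMap A B)) (f : A) (hfA : f ∈ A⁰)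
    (hfB : algebraMap A B f ∈ B⁰) (hs : ∀ b : B, ∃ (n : ℕ) (a : A), algebraMap A B a = algebraMap A B f ^ n * b) :
    Nonempty (B ≃ₐ[A] Cl A) := by
  obtain ⟨ψ, hψ⟩ := exists_embedding A B hinj f hfA hfB hs
  have hrange : ψ.range = integralClosure A (FractionRing A) := by
    ext x
    constructor
    · rintro ⟨b, rfl⟩
      exact (Algebra.IsIntegral.isIntegral (R := A) b).map ψ
    · intro hx
      have e : B ≃+* ψ.range := (AlgEquiv.ofInjective ψ hψ).toRingEquiv
      have h1 : EGA4.IsNormalRing ψ.range := Ega4C.NormalRing2.isNormalRing_of_ringEquiv e hB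
      have h2 : IsIntegrallyClosed ψ.range := Ega4C.NormalRing.isIntegrallyClosed_of_isNormalRing _ h1
      have h3 : IsFractionRing ψ.range (FractionRing A) := Ega4C.NormalRing.isFractionRing_subalgebra _
      have h4 : IsIntegral ψ.range x := IsIntegral.tower_top hx
      obtain ⟨y, hy⟩ := (isIntegrallyClosed_iff (FractionRing A)).1 h2 h4
      rw [← hy]
      exact y.2
  exact ⟨(AlgEquiv.ofInjective ψ hψ).trans (Subalgebra.equivOfEq _ _ hrange)⟩

/-- The maximal ideals of an integral extension of a local ring. -/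
theorem card_maximalSpectrum [IsLocalRing A] [Algebra.IsIntegral A B] :
    ENat.card (MaximalSpectrum B) =
      ENat.card {Q : PrimeSpectrum B // Q.asIdeal.comap (algebraMap A B) = IsLocalRing.maximalIdeal A} := by
  refine ENat.card_congr
    { toFun := fun m => ⟨m.toPrimeSpectrum, ?_⟩
      invFun := fun Q => ⟨Q.1.asIdeal, ?_⟩
      left_inv := fun m => rfl
      right_inv := fun Q => rfl }
  · have := m.isMaximal
    exact IsLocalRing.eq_maximalIdeal (Ideal.isMaximal_comap_of_isIntegral_of_isMaximal m.asIdeal)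
  · have := Q.1.isPrime
    refine Ideal.isMaximal_of_isIntegral_of_isMaximal_comap (R := A) Q.1.asIdeal ?_
    rw [Q.2]
    infer_instance

end

section localized

variable (A₀ B₀ A : Type u) [CommRing A₀] [CommRing B₀] [CommRing A] [Algebra A₀ B₀] [Algebra A₀ A]
  (p : Ideal A₀) [p.IsPrime] [IsLocalization.AtPrime A p]

/-- The number of branches of a localization. -/
theorem numBranches_eq [IsLocalRing A] [IsReduced A] [IsNoetherianRing A]
    [Algebra.IsIntegral A₀ B₀] (hB : EGA4.IsNormalRing B₀)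
    (hinj : Function.Injective (algebraMap A₀ B₀)) (f : A₀) (hfA : f ∈ A₀⁰)
    (hfB : algebraMap A₀ B₀ f ∈ B₀⁰) (hs : ∀ b : B₀, ∃ (n : ℕ) (a : A₀), algebraMap A₀ B₀ a = algebraMap A₀ B₀ f ^ n * b) :
    Brnch.numBranches A = ENat.card {q : PrimeSpectrum B₀ // q.asIdeal.comap (algebraMap A₀ B₀) = p} := by
  let B := Localization (Algebra.algebraMapSubmonoid B₀ p.primeCompl)
  let iAB : Algebra A B := localizationAlgebra p.primeCompl B₀
  have hAB : ∀ a : A₀, algebraMap A B (algebraMap A₀ A a) = algebraMap B₀ B (algebraMap A₀ B₀ a) := fun a =>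
    IsLocalization.map_eq _ a
  have t1 : IsScalarTower A₀ A B := IsScalarTower.of_algebraMap_eq fun a => by
    rw [hAB]
    rfl
  have hint : Algebra.IsIntegral A B := ⟨isIntegral_localization (R := A₀) (S := B₀) (M := p.primeCompl)⟩
  have hN : EGA4.IsNormalRing B := Ega4C.NormalRing2.isNormalRing_localization hB _
  have hlB : IsLocalization (Submonoid.map (algebraMap A₀ B₀) p.primeCompl) B :=
    inferInstanceAs (IsLocalization (Algebra.algebraMapSubmonoid B₀ p.primeCompl) B)
  have hinj' : Function.Injective (algebraMap A B) :=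
    IsLocalization.map_injective_of_injective p.primeCompl A B hinj
  have hfA' : algebraMap A₀ A f ∈ A⁰ := IsLocalization.map_nonZeroDivisors_le p.primeCompl A ⟨f, hfA, rfl⟩
  have hfB' : algebraMap A B (algebraMap A₀ A f) ∈ B⁰ := by
    rw [hAB]
    exact IsLocalization.map_nonZeroDivisors_le (Algebra.algebraMapSubmonoid B₀ p.primeCompl) B ⟨_, hfB, rfl⟩
  have hs' : ∀ b : B, ∃ (n : ℕ) (a : A), algebraMap A B a = algebraMap A B (algebraMap A₀ A f) ^ n * b := by
    intro b
    obtain ⟨⟨b₀, ⟨_, t, ht, rfl⟩⟩, hb⟩ := IsLocalization.surj (Algebra.algebraMapSubmonoid B₀ p.primeCompl) b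
    obtain ⟨n, a₀, ha₀⟩ := hs b₀
    have hu : IsUnit (algebraMap A₀ A t) := IsLocalization.map_units A (⟨t, ht⟩ : p.primeCompl)
    refine ⟨n, algebraMap A₀ A a₀ * ↑(hu.unit⁻¹), ?_⟩
    have hu' : IsUnit (algebraMap A B (algebraMap A₀ A t)) := hu.map _
    apply hu'.mul_right_cancel
    have h1 : algebraMap A B ↑(hu.unit⁻¹) * algebraMap A B (algebraMap A₀ A t) = 1 := by
      rw [← map_mul, IsUnit.val_inv_mul, map_one]
    have h2 : b * algebraMap A B (algebraMap A₀ A t) = algebraMap B₀ B b₀ := by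
      rw [hAB]
      exact hb
    calc _ = algebraMap A B (algebraMap A₀ A a₀) * (algebraMap A B ↑(hu.unit⁻¹) * algebraMap A B (algebraMap A₀ A t)) := by
          rw [map_mul, mul_assoc]
      _ = algebraMap B₀ B (algebraMap A₀ B₀ a₀) := by rw [h1, mul_one, hAB]
      _ = algebraMap A B (algebraMap A₀ A f) ^ n * (b * algebraMap A B (algebraMap A₀ A t)) := by
          rw [h2, ha₀, hAB, map_mul, map_pow]
      _ = _ := by ring
  obtain ⟨e⟩ := nonempty_equiv A B hN hinj' (algebraMap A₀ A f) hfA' hfB' hs'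
  have hcl : Algebra.IsIntegral A (Cl A) := inferInstance
  rw [K830.MultiCross.numBranches_eq_cl, card_maximalSpectrum A (Cl A)]
  have e1 : ENat.card {Q : PrimeSpectrum (Cl A) // Q.asIdeal.comap (algebraMap A (Cl A)) = IsLocalRing.maximalIdeal A} =
      ENat.card {Q : PrimeSpectrum B // Q.asIdeal.comap (algebraMap A B) = IsLocalRing.maximalIdeal A} := by
    refine ENat.card_congr ((PrimeSpectrum.comapEquiv e.symm.toRingEquiv).toEquiv.subtypeEquiv
      (p := fun Q : PrimeSpectrum (Cl A) => Q.asIdeal.comap (algebraMap A (Cl A)) = IsLocalRing.maximalIdeal A)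
      (q := fun Q : PrimeSpectrum B => Q.asIdeal.comap (algebraMap A B) = IsLocalRing.maximalIdeal A) fun Q => ?_)
    have h1 : ((PrimeSpectrum.comapEquiv e.symm.toRingEquiv Q).asIdeal.comap (algebraMap A B)) =
        Q.asIdeal.comap (algebraMap A (Cl A)) := by
      ext a
      change e (algebraMap A B a) ∈ Q.asIdeal ↔ algebraMap A (Cl A) a ∈ Q.asIdeal
      rw [e.commutes]
    exact Iff.of_eq (congrArg (· = IsLocalRing.maximalIdeal A) h1.symm)
  rw [e1]
  -- primes of the localization
  have hcomp : (algebraMap A B).comp (algebraMap A₀ A) = (algebraMap B₀ B).comp (algebraMap A₀ B₀) :=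
    RingHom.ext hAB
  have hmax : (IsLocalRing.maximalIdeal A).comap (algebraMap A₀ A) = p :=
    IsLocalization.AtPrime.under_maximalIdeal A p
  have hkey : ∀ Q : PrimeSpectrum B, Q.asIdeal.comap (algebraMap A B) = IsLocalRing.maximalIdeal A ↔
      (PrimeSpectrum.comap (algebraMap B₀ B) Q).asIdeal.comap (algebraMap A₀ B₀) = p := by
    intro Q
    have h1 : (PrimeSpectrum.comap (algebraMap B₀ B) Q).asIdeal.comap (algebraMap A₀ B₀) =
        (Q.asIdeal.comap (algebraMap A B)).comap (algebraMap A₀ A) := by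
      rw [PrimeSpectrum.comap_asIdeal, Ideal.comap_comap, Ideal.comap_comap, hcomp]
    rw [h1]
    constructor
    · intro h
      rw [h, hmax]
    · intro h
      rw [← IsLocalization.map_under p.primeCompl A (Q.asIdeal.comap (algebraMap A B)),
        ← IsLocalization.map_under p.primeCompl A (IsLocalRing.maximalIdeal A)]
      exact congrArg (Ideal.map (algebraMap A₀ A)) (h.trans hmax.symm)
  refine ENat.card_congr (Equiv.ofBijective (fun Q => ⟨PrimeSpectrum.comap (algebraMap B₀ B) Q.1, (hkey Q.1).1 Q.2⟩) ?_)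
  constructor
  · intro Q Q' h
    have h1 := congrArg Subtype.val h
    exact Subtype.ext (PrimeSpectrum.localization_comap_injective B (Algebra.algebraMapSubmonoid B₀ p.primeCompl) h1)
  · rintro ⟨q, hq⟩
    have h1 : q ∈ Set.range (PrimeSpectrum.comap (algebraMap B₀ B)) := by
      rw [PrimeSpectrum.localization_comap_range B (Algebra.algebraMapSubmonoid B₀ p.primeCompl)]
      rw [Set.mem_ofPred_eq, Set.disjoint_left]
      rintro _ ⟨t, ht, rfl⟩ h
      apply ht
      rw [← hq]
      exact h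
    obtain ⟨Q, rfl⟩ := h1
    exact ⟨⟨Q, (hkey Q).2 hq⟩, rfl⟩

end localized

variable {X X' : Scheme.{u}} (π : X' ⟶ X)

/-- The fibre of an affine morphism in terms of prime ideals. -/
theorem card_fibre [IsAffineHom π] {V : X.Opens} (hV : IsAffineOpen V) (x : X) (hx : x ∈ V) :
    ENat.card (π ⁻¹' {x} : Set X') = ENat.card {q : PrimeSpectrum Γ(X', π ⁻¹ᵁ V) //
      q.asIdeal.comap (π.app V).hom = (hV.primeIdealOf ⟨x, hx⟩).asIdeal} := by
  have hV' := hV.preimage π
  have hinj : ∀ {Y : Scheme.{u}} {W : Y.Opens} (hW : IsAffineOpen W) (a b : W),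
      hW.primeIdealOf a = hW.primeIdealOf b → a = b := by
    intro Y W hW a b h
    have h1 := hW.fromSpec_primeIdealOf a
    rw [h, hW.fromSpec_primeIdealOf] at h1
    exact Subtype.ext h1.symm
  refine ENat.card_congr (Equiv.ofBijective (fun y => ⟨hV'.primeIdealOf ⟨y.1, by
    have h1 : π y.1 = x := y.2
    change π y.1 ∈ V
    rw [h1]
    exact hx⟩, ?_⟩) ⟨?_, ?_⟩)
  · rw [Divis.WeakAssPush.comap_primeIdealOf π hV hV']
    have h1 : π y.1 = x := y.2
    congr 2
    exact Subtype.ext h1
  · intro y y' h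
    have h1 := hinj hV' _ _ (congrArg Subtype.val h)
    exact Subtype.ext (congrArg (fun a : (π ⁻¹ᵁ V : X'.Opens) => (a : X')) h1)
  · rintro ⟨q, hq⟩
    obtain ⟨y, hy, hyq⟩ := Divis.WeakAss.exists_point hV' q
    have h1 : hV.primeIdealOf ⟨π y, hy⟩ = hV.primeIdealOf ⟨x, hx⟩ := by
      apply PrimeSpectrum.ext
      rw [← Divis.WeakAssPush.comap_primeIdealOf π hV hV' hy, hyq, hq]
    have h2 : π y = x := congrArg Subtype.val (hinj hV _ _ h1)
    exact ⟨⟨y, h2⟩, Subtype.ext hyq⟩

/-- `numBranchesAt X x = #π⁻¹(x)`. -/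
theorem numBranchesAt_eq [IsFinite π] [IsReduced X] [IsLocallyNoetherian X] (hX' : Pi1.IsNormalScheme X')
    (U : X.Opens) (hU : Dense (U : Set X)) (hU' : Dense ((π ⁻¹ᵁ U : X'.Opens) : Set X')) [IsIso (π ∣_ U)] (x : X) :
    Brnch.numBranchesAt X x = ENat.card (π ⁻¹' {x} : Set X') := by
  obtain ⟨V, hV, hxV, -⟩ := exists_isAffineOpen_mem_and_subset (X := X) (x := x) (U := ⊤) trivial
  have hred : IsReduced X' := K321.DeltaGeo.isReduced_of_isNormal hX'
  obtain ⟨hinj, f, hfA, hfB, hs⟩ := K321.DeltaGeo.affine_facts π U hU hU' hV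
  let i1 : Algebra Γ(X, V) Γ(X', π ⁻¹ᵁ V) := (π.app V).hom.toAlgebra
  have hfin : Module.Finite Γ(X, V) Γ(X', π ⁻¹ᵁ V) := IsFinite.finite_app π V hV
  let i2 : Algebra Γ(X, V) (X.presheaf.stalk x) := (X.presheaf.germ V x hxV).hom.toAlgebra
  have hloc : IsLocalization.AtPrime (X.presheaf.stalk x) (hV.primeIdealOf ⟨x, hxV⟩).asIdeal :=
    hV.isLocalization_stalk ⟨x, hxV⟩
  rw [card_fibre π hV x hxV]
  exact numBranches_eq Γ(X, V) Γ(X', π ⁻¹ᵁ V) (X.presheaf.stalk x) (hV.primeIdealOf ⟨x, hxV⟩).asIdeal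
    (K321.DeltaGeo.isNormalRing_sections hX' (hV.preimage π)) hinj f hfA hfB hs

end K322.BranchFib
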