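import Groth.Agent.Curves.K322.HypCrit
import Groth.Agent.Models.H59.ConicEnd

/-!
# A smooth curve of genus one with a rational point is hyperelliptic
-/

set_option autoImplicit false
universe u
open CategoryTheory CategoryTheory.Limits AlgebraicGeometry TopologicalSpace IsLocalRing

namespace K322.EllHyp

open Groth.Agent Groth.Agent.Models

/-- A rational point of a smooth proper curve gives an invertible module of degree one. -/
theorem exists_deg_one (k : Type u) [Field k] {X : Scheme.{u}} [X.Over (Spec (CommRingCat.of k))] [IsIntegral X]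
    [IsProper (X ↘ (Spec (CommRingCat.of k)))] [Smooth (X ↘ (Spec (CommRingCat.of k)))]
    (hdim : topologicalKrullDim X = 1) (s : Spec (CommRingCat.of k) ⟶ X)
    (hs : s ≫ (X ↘ (Spec (CommRingCat.of k))) = 𝟙 _) :
    ∃ L : X.Modules, PicF.IsInvertible L ∧ Curv2.deg k X L 1 = 1 := by
  let z : Spec (CommRingCat.of k) := closedPoint k
  have hcl : IsClosedImmersion s := by
    have : IsClosedImmersion (s ≫ (X ↘ (Spec (CommRingCat.of k)))) := by rw [hs]; infer_instance
    exact IsClosedImmersion.of_comp s (X ↘ (Spec (CommRingCat.of k)))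
  have hy : IsClosed ({s z} : Set X) := by
    have h1 := s.isClosedEmbedding.isClosed_range
    have h2 : Set.range s = {s z} := by
      ext x
      constructor
      · rintro ⟨w, rfl⟩
        rw [Subsingleton.elim w z]; rfl
      · rintro rfl
        exact ⟨z, rfl⟩
    rwa [h2] at h1
  have hreg : IsRegularLocalRing (X.presheaf.stalk (s z)) := Groth.Agent.S1535.result k X (s z)
  obtain ⟨ϖ, hϖ, hϖ0⟩ := H55.Recog.exists_uniformizer hdim (s z) hy
  exact H55.PtDeg.exists_invertible_deg_one k X hdim (s z) hy ϖ hϖ hϖ0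
    (H55.PtDeg.surjective_glo _ (s z) (H59.ConicEnd.exists_const_sub_mem _ s hs z))

theorem exists_pencil (k : Type u) [Field k] {X : Scheme.{u}} [X.Over (Spec (CommRingCat.of k))] [IsIntegral X]
    [IsProper (X ↘ (Spec (CommRingCat.of k)))] [Smooth (X ↘ (Spec (CommRingCat.of k)))]
    (hdim : topologicalKrullDim X = 1)
    (h0 : Module.finrank k (Coh.HH X (Coh.structureModule X) 0) = 1) (hg : Curv2.genus k X = 1)
    (s : Spec (CommRingCat.of k) ⟶ X) (hs : s ≫ (X ↘ (Spec (CommRingCat.of k))) = 𝟙 _) :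
    ∃ L : X.Modules, PicF.IsInvertible L ∧ Curv2.deg k X L 1 = 2 ∧ Module.finrank k (Coh.HH X L 0) = 2 := by
  have hN : IsNoetherian X := VarietyB.DegFin.isNoetherian_of_isProper k X
  obtain ⟨M, hM, hdM⟩ := exists_deg_one k hdim s hs
  have hL := Fdesc.LocGen.isInvertible_tensorMod hM hM
  have hdeg : Curv2.deg k X (CohB1.tensorMod M M) 1 = 2 := by
    rw [Dix.InterNum.deg_tensor k X hdim hM hM, hdM]
    norm_num
  refine ⟨_, hL, hdeg, ?_⟩
  have h1 := Groth.Agent.CurvesB.CurveRR.deg_eq k X hdim.le (CohB1.tensorMod M M)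
  rw [hdeg, h0, hg] at h1
  have h2 : 2 ≤ Module.finrank k (Coh.HH X (CohB1.tensorMod M M) 0) := by
    omega
  have hnt : Nontrivial (Coh.HH X (CohB1.tensorMod M M) 0) :=
    Module.nontrivial_of_finrank_pos (R := k) (by omega)
  obtain ⟨h4, h5⟩ := Groth.Agent.S1564.result k X hdim h0 _ hL hnt
  rw [hdeg] at h4 h5
  rcases h4.lt_or_eq with h6 | h6
  · omega
  · have := h5 h6 (by norm_num)
    omega

end K322.EllHyp
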