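import Groth.Agent.Variety.K425.GenEtale
import Mathlib.AlgebraicGeometry.ResidueField
import Mathlib.FieldTheory.Separable

/-!
# Function field extension and residue fields at generic points
-/

set_option autoImplicit false
universe u
open CategoryTheory CategoryTheory.Limits AlgebraicGeometry

namespace K322.GenRes

variable {X Y : Scheme.{u}} [IsIntegral X] [IsIntegral Y] (f : X ⟶ Y)

theorem residue_bijective (X : Scheme.{u}) [IsIntegral X] {x : X} (hx : x = genericPoint X) :
    Function.Bijective (X.residue x).hom := by
  subst hx
  refine ⟨?_, ?_⟩
  · exact RingHom.injective (X.residue (genericPoint X)).hom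
  · exact IsLocalRing.residue_surjective

/-- The comparison of the extension of function fields with the extension of residue fields at the generic
points. -/
theorem exists_equiv (e : f (genericPoint X) = genericPoint Y) :
    ∃ (e1 : Y.functionField ≃+* Y.residueField (f (genericPoint X)))
      (e2 : X.functionField ≃+* X.residueField (genericPoint X)),
      ∀ a, e2 (K425.GenEtale.ffMap f e a) = (f.residueFieldMap (genericPoint X)).hom (e1 a) := by
  have h1 : Function.Bijective (Y.presheaf.stalkSpecializes (specializes_of_eq e)).hom := by
    have : IsIso (Y.presheaf.stalkSpecializes (specializes_of_eq e)) :=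
      (Y.presheaf.stalkCongr (Inseparable.of_eq e.symm)).isIso_hom
    exact ConcreteCategory.bijective_of_isIso _
  refine ⟨RingEquiv.ofBijective ((Y.residue _).hom.comp (Y.presheaf.stalkSpecializes (specializes_of_eq e)).hom)
    ((residue_bijective Y e).comp h1), RingEquiv.ofBijective _ (residue_bijective X rfl), ?_⟩
  intro a
  have h2 := Scheme.residue_residueFieldMap f (genericPoint X)
  exact (congrArg (fun g => g.hom ((Y.presheaf.stalkSpecializes (specializes_of_eq e)).hom a)) h2).symm

theorem residueDegree_eq (e : f (genericPoint X) = genericPoint Y) :
    f.residueDegree (genericPoint X) = @Module.finrank Y.functionField X.functionField _ _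
      (K425.GenEtale.ffMap f e).toAlgebra.toModule := by
  obtain ⟨e1, e2, h⟩ := exists_equiv f e
  letI := (K425.GenEtale.ffMap f e).toAlgebra
  letI := (f.residueFieldMap (genericPoint X)).hom.toAlgebra
  symm
  exact Algebra.finrank_eq_of_equiv_equiv e1 e2 (RingHom.ext fun a => (h a).symm)

theorem isSeparable_iff (e : f (genericPoint X) = genericPoint Y) :
    @Algebra.IsSeparable (Y.residueField (f (genericPoint X))) (X.residueField (genericPoint X)) _ _
      (f.residueFieldMap (genericPoint X)).hom.toAlgebra ↔
    @Algebra.IsSeparable Y.functionField X.functionField _ _ (K425.GenEtale.ffMap f e).toAlgebra := by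
  obtain ⟨e1, e2, h⟩ := exists_equiv f e
  letI := (K425.GenEtale.ffMap f e).toAlgebra
  letI := (f.residueFieldMap (genericPoint X)).hom.toAlgebra
  exact (Algebra.IsSeparable.iff_of_equiv_equiv e1 e2 (RingHom.ext fun a => (h a).symm)).symm

end K322.GenRes
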