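import Mathlib.Algebra.Polynomial.Reverse
import Mathlib.Algebra.Polynomial.Div
import Mathlib.RingTheory.Algebraic.Basic
import Mathlib.LinearAlgebra.Basis.Basic
import Mathlib.RingTheory.IntegralClosure.IsIntegral.Basic
import Mathlib.RingTheory.Polynomial.Basic
import Mathlib.Tactic.FieldSimp
import Mathlib.Tactic.Ring
import Mathlib.Tactic.LinearCombination
import Mathlib.Tactic.ComputeDegree

/-!
# Algebra of hyperelliptic equations: normal forms of quadratic extensions of `k(t)`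
-/

set_option autoImplicit false

open Polynomial

namespace K322.HypAlg

variable {k K : Type*} [Field k] [Field K] [Algebra k K]

/-- `p(t) = t ^ N * (reflect N p)(t⁻¹)` -/
theorem aeval_eq_reflect (t : K) (ht : t ≠ 0) (N : ℕ) (p : k[X]) (hp : p.natDegree ≤ N) :
    aeval t p = t ^ N * aeval t⁻¹ (reflect N p) := by
  letI : Invertible t := invertibleOfNonzero ht
  have h := eval₂_reflect_mul_pow (algebraMap k K) t N p hp
  rw [invOf_eq_inv] at h
  rw [aeval_def, aeval_def, ← h, mul_comm]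

/-- normal form: `A = k[t] ⊕ k[t] y`, `B = k[t⁻¹] ⊕ k[t⁻¹] t⁻ⁿ y`. -/
structure NF (t y : K) (n : ℕ) (A B : Subalgebra k K) : Prop where
  t0 : t ≠ 0
  ind : ∀ p q : k[X], aeval t p + aeval t q * y = 0 → p = 0 ∧ q = 0
  memA : ∀ z, z ∈ A ↔ ∃ p q : k[X], z = aeval t p + aeval t q * y
  memB : ∀ z, z ∈ B ↔ ∃ p q : k[X], z = aeval t⁻¹ p + aeval t⁻¹ q * (t⁻¹ ^ n * y)

/-- linear independence over `k[t]` implies linear independence over `k[t⁻¹]`. -/
theorem ind_inv {t y : K} (t0 : t ≠ 0) (ind : ∀ p q : k[X], aeval t p + aeval t q * y = 0 → p = 0 ∧ q = 0)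
    (n : ℕ) (p q : k[X]) (h : aeval t⁻¹ p + aeval t⁻¹ q * (t⁻¹ ^ n * y) = 0) : p = 0 ∧ q = 0 := by
  set N := max p.natDegree q.natDegree with hN
  have hp : aeval t⁻¹ p = t⁻¹ ^ N * aeval t (reflect N p) := by
    have := aeval_eq_reflect t⁻¹ (inv_ne_zero t0) N p (le_max_left _ _)
    rwa [inv_inv] at this
  have hq : aeval t⁻¹ q = t⁻¹ ^ N * aeval t (reflect N q) := by
    have := aeval_eq_reflect t⁻¹ (inv_ne_zero t0) N q (le_max_right _ _)
    rwa [inv_inv] at this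
  rw [hp, hq] at h
  have h1 : aeval t (X ^ n * reflect N p) + aeval t (reflect N q) * y = 0 := by
    have h2 : t ^ n * t ^ N * (t⁻¹ ^ N * aeval t (reflect N p) +
        t⁻¹ ^ N * aeval t (reflect N q) * (t⁻¹ ^ n * y)) = 0 := by rw [h, mul_zero]
    rw [← h2, map_mul, map_pow, aeval_X]
    simp only [inv_pow]
    field_simp
  obtain ⟨h3, h4⟩ := ind _ _ h1
  refine ⟨?_, reflect_eq_zero_iff.1 h4⟩
  rcases mul_eq_zero.1 h3 with h5 | h5
  · exact absurd h5 (pow_ne_zero n X_ne_zero)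
  · exact reflect_eq_zero_iff.1 h5

theorem aeval_inj {t y : K} (ind : ∀ p q : k[X], aeval t p + aeval t q * y = 0 → p = 0 ∧ q = 0) {p q : k[X]}
    (h : aeval t p = aeval t q) : p = q := by
  have := (ind (p - q) 0 (by rw [map_sub, h, map_zero, sub_self, zero_mul, add_zero])).1
  exact sub_eq_zero.1 this

/-- if `t ^ (-d) P(t) = p(t⁻¹)` then `deg P ≤ d`. -/
theorem natDegree_le_of_eq {t y : K} (t0 : t ≠ 0)
    (ind : ∀ p q : k[X], aeval t p + aeval t q * y = 0 → p = 0 ∧ q = 0) (d : ℕ) (P p : k[X])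
    (h : t⁻¹ ^ d * aeval t P = aeval t⁻¹ p) : P.natDegree ≤ d := by
  by_cases hP : P = 0
  · rw [hP]; simp
  have hp : aeval t⁻¹ p = t⁻¹ ^ p.natDegree * aeval t (reflect p.natDegree p) := by
    have := aeval_eq_reflect t⁻¹ (inv_ne_zero t0) p.natDegree p le_rfl
    rwa [inv_inv] at this
  have h1 : aeval t (X ^ p.natDegree * P) = aeval t (X ^ d * reflect p.natDegree p) := by
    rw [map_mul, map_mul, map_pow, map_pow, aeval_X]
    have h2 : t ^ p.natDegree * aeval t P = t ^ p.natDegree * t ^ d * (t⁻¹ ^ d * aeval t P) := by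
      simp only [inv_pow]
      field_simp
    rw [h2, h, hp]
    simp only [inv_pow]
    field_simp
  have h2 := aeval_inj ind h1
  have h3 : (X ^ p.natDegree * P).natDegree = p.natDegree + P.natDegree := by
    rw [natDegree_mul (pow_ne_zero _ X_ne_zero) hP, natDegree_X_pow]
  have h4 : (X ^ d * reflect p.natDegree p).natDegree ≤ d + p.natDegree := by
    refine natDegree_mul_le.trans ?_
    rw [natDegree_X_pow]
    refine Nat.add_le_add_left (natDegree_reflect_le.trans ?_) d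
    simp
  rw [h2] at h3
  omega

/-- elements `t ^ (-d) P(t)` with `deg P ≤ d` are polynomials in `t⁻¹`. -/
theorem exists_aeval_inv (t : K) (t0 : t ≠ 0) (d : ℕ) (P : k[X]) (hP : P.natDegree ≤ d) :
    ∃ p : k[X], t⁻¹ ^ d * aeval t P = aeval t⁻¹ p := by
  refine ⟨reflect d P, ?_⟩
  rw [aeval_eq_reflect t t0 d P hP, ← mul_assoc, ← mul_pow, inv_mul_cancel₀ t0, one_pow, one_mul]

namespace NF

variable {t y : K} {n : ℕ} {A B : Subalgebra k K} (h : NF t y n A B)

include h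

theorem y_mem : y ∈ A := (h.memA y).2 ⟨0, 1, by simp⟩

theorem t_mem : t ∈ A := (h.memA t).2 ⟨X, 0, by simp⟩

theorem s_mem : t⁻¹ ∈ B := (h.memB t⁻¹).2 ⟨X, 0, by simp⟩

theorem w_mem : t⁻¹ ^ n * y ∈ B := (h.memB _).2 ⟨0, 1, by simp⟩

/-- The equation. -/
theorem exists_eq : ∃ P Q : k[X], y ^ 2 + aeval t Q * y = aeval t P := by
  obtain ⟨p, q, hpq⟩ := (h.memA (y ^ 2)).1 (pow_mem h.y_mem 2)
  refine ⟨p, -q, ?_⟩
  rw [hpq, map_neg]
  ring

theorem degree_le {P Q : k[X]} (hPQ : y ^ 2 + aeval t Q * y = aeval t P) :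
    P.natDegree ≤ 2 * n ∧ Q.natDegree ≤ n := by
  obtain ⟨p, q, hpq⟩ := (h.memB ((t⁻¹ ^ n * y) ^ 2)).1 (pow_mem h.w_mem 2)
  have h1 : y ^ 2 = aeval t P - aeval t Q * y := by rw [← hPQ]; ring
  have h2 : t⁻¹ ^ (2 * n) * aeval t P - t⁻¹ ^ n * aeval t Q * (t⁻¹ ^ n * y) =
      aeval t⁻¹ p + aeval t⁻¹ q * (t⁻¹ ^ n * y) := by
    rw [← hpq, mul_pow, h1]
    ring
  -- clear denominators
  set N := max p.natDegree q.natDegree with hN
  have hp : aeval t⁻¹ p = t⁻¹ ^ N * aeval t (reflect N p) := by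
    have := aeval_eq_reflect t⁻¹ (inv_ne_zero h.t0) N p (le_max_left _ _)
    rwa [inv_inv] at this
  have hq : aeval t⁻¹ q = t⁻¹ ^ N * aeval t (reflect N q) := by
    have := aeval_eq_reflect t⁻¹ (inv_ne_zero h.t0) N q (le_max_right _ _)
    rwa [inv_inv] at this
  have h3 : aeval t (X ^ N * P - X ^ (2 * n) * reflect N p) +
      aeval t (-(X ^ N * Q) - X ^ n * reflect N q) * y = 0 := by
    have h4 : t ^ (2 * n) * t ^ N * (t⁻¹ ^ (2 * n) * aeval t P - t⁻¹ ^ n * aeval t Q * (t⁻¹ ^ n * y) -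
      (aeval t⁻¹ p + aeval t⁻¹ q * (t⁻¹ ^ n * y))) = 0 := by rw [h2, sub_self, mul_zero]
    rw [← h4, hp, hq]
    simp only [map_sub, map_mul, map_neg, map_pow, aeval_X]
    have ht0 := h.t0
    simp only [inv_pow]
    field_simp
    ring
  obtain ⟨h5, h6⟩ := h.ind _ _ h3
  have ht0 := h.t0
  constructor
  · apply natDegree_le_of_eq h.t0 h.ind (2 * n) P p
    have h7 := congrArg (aeval t) (sub_eq_zero.1 h5)
    simp only [map_mul, map_pow, aeval_X] at h7
    rw [hp]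
    have h8 : aeval t P = t⁻¹ ^ N * (t ^ N * aeval t P) := by
      simp only [inv_pow]
      field_simp
    rw [h8, h7]
    simp only [inv_pow]
    field_simp
  · apply natDegree_le_of_eq h.t0 h.ind n Q (-q)
    have h7 := congrArg (aeval t) h6
    simp only [map_sub, map_neg, map_mul, map_pow, aeval_X, map_zero] at h7
    rw [map_neg, hq]
    have h8 : t ^ N * aeval t Q = - (t ^ n * aeval t (reflect N q)) := by
      linear_combination -h7
    have h9 : aeval t Q = t⁻¹ ^ N * (t ^ N * aeval t Q) := by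
      simp only [inv_pow]
      field_simp
    rw [h9, h8]
    simp only [inv_pow]
    field_simp

/-- The lower bound, from integral closedness of `B`. -/
theorem le_degree {P Q : k[X]} (hPQ : y ^ 2 + aeval t Q * y = aeval t P) (hn : 1 ≤ n)
    (hB : ∀ z : K, IsIntegral B z → z ∈ B) : 2 * n - 1 ≤ max (2 * Q.natDegree) P.natDegree := by
  by_contra hlt
  push Not at hlt
  have hQ : Q.natDegree ≤ n - 1 := by
    have := lt_of_le_of_lt (le_max_left (2 * Q.natDegree) P.natDegree) hlt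
    omega
  have hP : P.natDegree ≤ 2 * (n - 1) := by
    have := lt_of_le_of_lt (le_max_right (2 * Q.natDegree) P.natDegree) hlt
    omega
  obtain ⟨q, hq⟩ := exists_aeval_inv t h.t0 (n - 1) Q hQ
  obtain ⟨p, hp⟩ := exists_aeval_inv t h.t0 (2 * (n - 1)) P hP
  have hmem : ∀ r : k[X], aeval t⁻¹ r ∈ B := fun r => (h.memB _).2 ⟨r, 0, by simp⟩
  have hint : IsIntegral B (t⁻¹ ^ (n - 1) * y) := by
    refine ⟨X ^ 2 + C ⟨_, hmem q⟩ * X - C ⟨_, hmem p⟩, ?_, ?_⟩
    · monicity!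
    · simp only [eval₂_sub, eval₂_add, eval₂_mul, eval₂_pow, eval₂_X, eval₂_C]
      change (t⁻¹ ^ (n - 1) * y) ^ 2 + aeval t⁻¹ q * (t⁻¹ ^ (n - 1) * y) - aeval t⁻¹ p = 0
      rw [← hq, ← hp, ← hPQ]
      ring
  obtain ⟨a, b, hab⟩ := (h.memB _).1 (hB _ hint)
  have h1 : aeval t⁻¹ (X * a) + aeval t⁻¹ (X * b - 1) * (t⁻¹ ^ n * y) = 0 := by
    have h2 : t⁻¹ ^ n * y = t⁻¹ * (t⁻¹ ^ (n - 1) * y) := by
      rw [← mul_assoc, ← pow_succ', Nat.sub_add_cancel hn]
    simp only [map_sub, map_mul, aeval_X, map_one]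
    have h3 : t⁻¹ * (aeval t⁻¹ a + aeval t⁻¹ b * (t⁻¹ ^ n * y)) - t⁻¹ ^ n * y = 0 := by
      rw [← hab, ← h2, sub_self]
    rw [← h3]
    ring
  obtain ⟨-, h2⟩ := ind_inv h.t0 h.ind n _ _ h1
  have h3 := congrArg (eval 0) h2
  simp at h3

/-- completing the square -/
theorem shift (r : k[X]) (hr : r.natDegree ≤ n) : NF t (y + aeval t r) n A B where
  t0 := h.t0
  ind p q hpq := by
    have h1 : aeval t (p + q * r) + aeval t q * y = 0 := by
      rw [← hpq, map_add, map_mul]; ring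
    obtain ⟨h2, h3⟩ := h.ind _ _ h1
    refine ⟨?_, h3⟩
    rw [h3] at h2
    simpa using h2
  memA z := by
    rw [h.memA]
    constructor
    · rintro ⟨p, q, rfl⟩
      exact ⟨p - q * r, q, by rw [map_sub, map_mul]; ring⟩
    · rintro ⟨p, q, rfl⟩
      exact ⟨p + q * r, q, by rw [map_add, map_mul]; ring⟩
  memB z := by
    obtain ⟨a, ha⟩ := exists_aeval_inv t h.t0 n r hr
    rw [h.memB]
    constructor
    · rintro ⟨p, q, rfl⟩
      refine ⟨p - q * a, q, ?_⟩
      rw [map_sub, map_mul, ← ha]; ring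
    · rintro ⟨p, q, rfl⟩
      refine ⟨p + q * a, q, ?_⟩
      rw [map_add, map_mul, ← ha]; ring

end NF

end K322.HypAlg
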