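import Groth.Agent.Curves.K322.HypAlg
import Mathlib.RingTheory.Polynomial.DegreeLT
import Mathlib.LinearAlgebra.Dimension.Constructions
import Mathlib.Algebra.Polynomial.RingDivision

/-!
# Existence of normal forms of quadratic extensions of `k(t)` and the genus
-/

set_option autoImplicit false

open Polynomial

namespace K322.HypAlg

variable {k K : Type*} [Field k] [Field K] [Algebra k K]

/-- `t⁻ᴺ p(t)` is the sum of a polynomial in `t` and of a polynomial in `t⁻¹`. -/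
theorem split (t : K) (t0 : t ≠ 0) (N : ℕ) (p : k[X]) :
    t⁻¹ ^ N * aeval t p = aeval t (p /ₘ X ^ N) + aeval t⁻¹ (reflect N (p %ₘ X ^ N)) := by
  have h1 : (p %ₘ X ^ N).natDegree ≤ N := by
    have h2 := natDegree_modByMonic_le p (monic_X_pow (R := k) N)
    rw [natDegree_X_pow] at h2
    exact h2
  have h3 := modByMonic_add_div p (X ^ N : k[X])
  have h4 := congrArg (aeval t) h3
  rw [map_add, map_mul, map_pow, aeval_X, aeval_eq_reflect t t0 N _ h1] at h4
  rw [← h4, mul_add, ← mul_assoc, ← mul_assoc, ← mul_pow, inv_mul_cancel₀ t0, one_pow, one_mul, one_mul,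
    add_comm]

theorem exists_NF (t : K) (t0 : t ≠ 0) (y₀ w₀ : K) (A B : Subalgebra k K)
    (ind : ∀ p q : k[X], aeval t p + aeval t q * y₀ = 0 → p = 0 ∧ q = 0)
    (memA : ∀ z, z ∈ A ↔ ∃ p q : k[X], z = aeval t p + aeval t q * y₀)
    (memB : ∀ z, z ∈ B ↔ ∃ p q : k[X], z = aeval t⁻¹ p + aeval t⁻¹ q * w₀)
    (hw : ∃ (N : ℕ) (p q : k[X]), t ^ N * w₀ = aeval t p + aeval t q * y₀)
    (hy : ∃ (M : ℕ) (p q : k[X]), t⁻¹ ^ M * y₀ = aeval t⁻¹ p + aeval t⁻¹ q * w₀)
    (h0 : ∀ z, z ∈ A → z ∈ B → ∃ c : k, z = algebraMap k K c) :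
    ∃ (y : K) (n : ℕ), 1 ≤ n ∧ NF t y n A B := by
  obtain ⟨N, p, q, hw⟩ := hw
  obtain ⟨M, p', q', hy⟩ := hy
  set D := max p'.natDegree q'.natDegree with hD
  have hp : aeval t⁻¹ p' = t⁻¹ ^ D * aeval t (reflect D p') := by
    have := aeval_eq_reflect t⁻¹ (inv_ne_zero t0) D p' (le_max_left _ _)
    rwa [inv_inv] at this
  have hq : aeval t⁻¹ q' = t⁻¹ ^ D * aeval t (reflect D q') := by
    have := aeval_eq_reflect t⁻¹ (inv_ne_zero t0) D q' (le_max_right _ _)
    rwa [inv_inv] at this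
  rw [hp, hq] at hy
  have hw' : w₀ = t⁻¹ ^ N * (aeval t p + aeval t q * y₀) := by
    rw [← hw, ← mul_assoc, ← mul_pow, inv_mul_cancel₀ t0, one_pow, one_mul]
  have h1 : aeval t (X ^ (M + N) * reflect D p' + X ^ M * reflect D q' * p) +
      aeval t (X ^ M * reflect D q' * q - X ^ (D + N)) * y₀ = 0 := by
    have h2 : t ^ (M + N + D) * (t⁻¹ ^ M * y₀) = t ^ (M + N + D) * (t⁻¹ ^ D * aeval t (reflect D p') +
      t⁻¹ ^ D * aeval t (reflect D q') * w₀) := by rw [hy]
    rw [hw'] at h2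
    have h3 : t ^ (D + N) * y₀ = t ^ (M + N) * aeval t (reflect D p') +
        t ^ M * aeval t (reflect D q') * (aeval t p + aeval t q * y₀) := by
      have e1 : t ^ (M + N + D) * (t⁻¹ ^ M * y₀) = t ^ (D + N) * y₀ := by
        simp only [inv_pow]
        field_simp
        ring
      have e2 : t ^ (M + N + D) * (t⁻¹ ^ D * aeval t (reflect D p') +
        t⁻¹ ^ D * aeval t (reflect D q') * (t⁻¹ ^ N * (aeval t p + aeval t q * y₀))) =
        t ^ (M + N) * aeval t (reflect D p') +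
        t ^ M * aeval t (reflect D q') * (aeval t p + aeval t q * y₀) := by
        simp only [inv_pow]
        field_simp
        ring
      rw [← e1, h2, e2]
    simp only [map_add, map_sub, map_mul, map_pow, aeval_X]
    linear_combination -h3
  obtain ⟨-, h2⟩ := ind _ _ h1
  have h3 : q ∣ X ^ (D + N) := ⟨X ^ M * reflect D q', by rw [← sub_eq_zero.1 h2]; ring⟩
  obtain ⟨m, -, hm⟩ := (dvd_prime_pow prime_X _).1 h3
  obtain ⟨c, hc0, hc⟩ : ∃ c : k, c ≠ 0 ∧ q = C c * X ^ m := by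
    obtain ⟨u, hu⟩ := hm.symm
    obtain ⟨c, hc, hcu⟩ := isUnit_iff.1 u.isUnit
    refine ⟨c, hc.ne_zero, ?_⟩
    rw [← hu, ← hcu, mul_comm]
  -- modify `w₀`
  set e := reflect N (p %ₘ X ^ N) with he
  set d := p /ₘ X ^ N with hd
  have hc0' : algebraMap k K c ≠ 0 := (_root_.map_ne_zero _).2 hc0
  have hw1 : w₀ - aeval t⁻¹ e = aeval t d + algebraMap k K c * (t⁻¹ ^ N * t ^ m) * y₀ := by
    rw [hw', mul_add, split t t0 N p, hc, map_mul, aeval_C, map_pow, aeval_X]
    ring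
  have hw1B : w₀ - aeval t⁻¹ e ∈ B := (memB _).2 ⟨-e, 1, by rw [map_neg, map_one]; ring⟩
  have hmN : m < N := by
    by_contra hle
    push Not at hle
    have h4 : t⁻¹ ^ N * t ^ m = t ^ (m - N) := by
      obtain ⟨j, rfl⟩ := Nat.exists_eq_add_of_le hle
      rw [Nat.add_sub_cancel_left, pow_add, ← mul_assoc, ← mul_pow, inv_mul_cancel₀ t0, one_pow, one_mul]
    rw [h4] at hw1
    have hw1A : w₀ - aeval t⁻¹ e ∈ A := (memA _).2 ⟨d, C c * X ^ (m - N), by
      rw [hw1, map_mul, aeval_C, map_pow, aeval_X]⟩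
    obtain ⟨c', hc'⟩ := h0 _ hw1A hw1B
    rw [hc'] at hw1
    have h5 : aeval t (d - C c') + aeval t (C c * X ^ (m - N)) * y₀ = 0 := by
      rw [map_sub, aeval_C, map_mul, aeval_C, map_pow, aeval_X, hw1]
      ring
    have h6 := (ind _ _ h5).2
    rcases mul_eq_zero.1 h6 with h7 | h7
    · exact hc0 (C_eq_zero.1 h7)
    · exact pow_ne_zero _ X_ne_zero h7
  set n := N - m with hn
  have hs : t⁻¹ ^ N * t ^ m = t⁻¹ ^ n := by
    have : N = n + m := by omega
    rw [this, pow_add, mul_assoc, ← mul_pow, inv_mul_cancel₀ t0, one_pow, mul_one]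
  rw [hs] at hw1
  have htn : t⁻¹ ^ n * t ^ n = 1 := by rw [← mul_pow, inv_mul_cancel₀ t0, one_pow]
  refine ⟨algebraMap k K c * y₀ + t ^ n * aeval t d, n, by omega, t0, ?_, ?_, ?_⟩
  · intro a b hab
    have h5 : aeval t (a + b * X ^ n * d) + aeval t (b * C c) * y₀ = 0 := by
      rw [← hab]
      simp only [map_add, map_mul, map_pow, aeval_X, aeval_C]
      ring
    obtain ⟨h6, h7⟩ := ind _ _ h5
    have hb : b = 0 := by
      rcases mul_eq_zero.1 h7 with h8 | h8
      · exact h8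
      · exact absurd (C_eq_zero.1 h8) hc0
    refine ⟨?_, hb⟩
    rw [hb] at h6
    simpa using h6
  · intro z
    rw [memA]
    constructor
    · rintro ⟨a, b, rfl⟩
      refine ⟨a - b * C c⁻¹ * X ^ n * d, b * C c⁻¹, ?_⟩
      simp only [map_sub, map_mul, map_pow, aeval_X, aeval_C, map_inv₀]
      field_simp
      ring
    · rintro ⟨a, b, rfl⟩
      refine ⟨a + b * X ^ n * d, b * C c, ?_⟩
      simp only [map_add, map_mul, map_pow, aeval_X, aeval_C]
      ring
  · have h8 : t⁻¹ ^ n * (algebraMap k K c * y₀ + t ^ n * aeval t d) = w₀ - aeval t⁻¹ e := by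
      rw [hw1, mul_add, ← mul_assoc _ (t ^ n), htn]
      ring
    intro z
    rw [memB, h8]
    constructor
    · rintro ⟨a, b, rfl⟩
      exact ⟨a + b * e, b, by rw [map_add, map_mul]; ring⟩
    · rintro ⟨a, b, rfl⟩
      exact ⟨a - b * e, b, by rw [map_sub, map_mul]; ring⟩

end K322.HypAlg
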