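import Groth.Agent.Dix.Cast2
import Groth.Agent.Models.H57.P1End
import Groth.Agent.Models.H57.GeoInt
import Groth.Agent.S0023
import Groth.Agent.S0024
import Groth.Agent.VarietyB.ProjSpaceProper
import Groth.Agent.CurvesB.CurveRR
import Groth.Agent.VarietyB.DegFin

/-!
# The projective line over a field: `deg O(1) = 1`
-/

set_option autoImplicit false
universe u
open CategoryTheory CategoryTheory.Limits AlgebraicGeometry

namespace K322.P1Deg

variable (k : Type u) [Field k]

instance isProper_P1 : IsProper (CohB1.ProjSpace 1 k ↘ (Spec (CommRingCat.of k))) :=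
  Groth.Agent.VarietyB.ProjSpaceProper.isProper_toSpec 1 k

theorem h0_P1 : Module.finrank k (Coh.HH (CohB1.ProjSpace 1 k) (Coh.structureModule (CohB1.ProjSpace 1 k)) 0) = 1 :=
  Groth.Agent.Models.H57.GeoInt.finrank_H0 k _ (Groth.Agent.S0024.result 1 k)

theorem genus_P1 : Curv2.genus k (CohB1.ProjSpace 1 k) = 0 := by
  have : Subsingleton (Coh.HH (CohB1.ProjSpace 1 k) (Coh.structureModule (CohB1.ProjSpace 1 k)) 1) :=
    Groth.Agent.S0023.result 1 k 1 Nat.one_pos
  exact Module.finrank_zero_of_subsingleton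

theorem deg_twist (d : ℕ) :
    Curv2.deg k (CohB1.ProjSpace 1 k) (Twist.twistProjSpace 1 k (d : ℤ)) 1 = d := by
  have hN : IsNoetherian (CohB1.ProjSpace 1 k) :=
    Groth.Agent.VarietyB.DegFin.isNoetherian_of_isProper k _
  rw [Groth.Agent.CurvesB.CurveRR.deg_eq k _ (Groth.Agent.Models.H57.P1End.topologicalKrullDim_P1 k).le,
    h0_P1, genus_P1]
  obtain ⟨e⟩ := Groth.Agent.S0843.result k 1 d
  have h1 := Groth.Agent.S0844.result k 1 (d : ℤ) 1 (by omega) (by omega)
  have h2 : Module.finrank k (Coh.HH (CohB1.ProjSpace 1 k) (Twist.twistProjSpace 1 k (d : ℤ)) 1) = 0 :=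
    Module.finrank_zero_of_subsingleton
  rw [e.finrank_eq, h2, Groth.Agent.Dix.Cast2.finrank_homogeneous_two]
  push_cast
  ring

end K322.P1Deg
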