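import Groth.Agent.Curves.K322.FrobMain
import Groth.Agent.Curves.K322.P1Deg
import Groth.Agent.CurvesB.VABaseChange
import Groth.Agent.Sga5.ProjReg
import Mathlib.FieldTheory.SeparableClosure

/-!
# Degree two maps from a smooth curve of positive genus to the projective line are separable
-/

set_option autoImplicit false
universe u
open CategoryTheory CategoryTheory.Limits AlgebraicGeometry

namespace K322.Separ

/-- The genus is invariant under isomorphisms with a twist. -/
theorem genus_eq {k K : Type u} [Field k] [Field K] (F : k →+* K) {X X' : Scheme.{u}} (a : X ⟶ Spec (CommRingCat.of k))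
    [IsProper a] (b : X' ⟶ Spec (CommRingCat.of K))
    (i : X' ≅ pullback a (Spec.map (CommRingCat.ofHom F))) (hi : i.hom ≫ pullback.snd _ _ = b) :
    @Curv2.genus K _ X' ⟨b⟩ = @Curv2.genus k _ X ⟨a⟩ := by
  letI : X.Over (Spec (CommRingCat.of k)) := ⟨a⟩
  letI : X'.Over (Spec (CommRingCat.of K)) := ⟨b⟩
  letI : Algebra k K := F.toAlgebra
  haveI : IsProper (X ↘ Spec (CommRingCat.of k)) := ‹IsProper a›
  refine Groth.Agent.CurvesB.VABaseChange.genus_eq (p := i.hom ≫ pullback.fst a (Spec.map (CommRingCat.ofHom F))) ?_
  have h := IsPullback.of_hasPullback a (Spec.map (CommRingCat.ofHom F))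
  exact IsPullback.of_iso_pullback ⟨by
    change (i.hom ≫ pullback.fst a _) ≫ a = b ≫ Spec.map (CommRingCat.ofHom F)
    rw [Category.assoc, pullback.condition, ← Category.assoc, hi]⟩ i rfl hi

/-- An extension of degree two is separable or purely inseparable. -/
theorem separable_or (F E : Type*) [Field F] [Field E] [Algebra F E] (h : Module.finrank F E = 2) :
    Algebra.IsSeparable F E ∨ IsPurelyInseparable F E := by
  have hfin : FiniteDimensional F E := Module.finite_of_finrank_pos (by rw [h]; norm_num)
  have h1 := Module.finrank_mul_finrank F (separableClosure F E) E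
  rw [h] at h1
  have h2 : Module.finrank F (separableClosure F E) ∣ 2 := ⟨_, h1.symm⟩
  rcases (Nat.dvd_prime Nat.prime_two).1 h2 with h3 | h3
  · right
    have h4 : separableClosure F E = ⊥ := IntermediateField.finrank_eq_one_iff.1 h3
    exact (separableClosure.eq_bot_iff).1 h4
  · left
    have h5 : Module.finrank (separableClosure F E) E = 1 := by
      rw [h3] at h1; omega
    rw [← separableClosure.eq_top_iff]
    exact IntermediateField.finrank_eq_one_iff_eq_top.1 h5

/-- Degree two maps from a smooth curve of positive genus to the projective line are separable. -/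
theorem isSeparable (k : Type u) [Field k] (X : Scheme.{u}) [IsIntegral X] (a : X ⟶ Spec (CommRingCat.of k))
    [IsProper a] [Smooth a] (hdX : topologicalKrullDim X = 1) (hg : 1 ≤ @Curv2.genus k _ X ⟨a⟩)
    (f : X ⟶ CohB1.ProjSpace 1 k) [IsFinite f] (hf : f ≫ CohB1.ProjSpace.toSpec 1 k = a)
    (e : f (genericPoint X) = genericPoint (CohB1.ProjSpace 1 k))
    (h2 : @Module.finrank (CohB1.ProjSpace 1 k).functionField X.functionField _ _
      (K425.GenEtale.ffMap f e).toAlgebra.toModule = 2) :
    @Algebra.IsSeparable (CohB1.ProjSpace 1 k).functionField X.functionField _ _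
      (K425.GenEtale.ffMap f e).toAlgebra := by
  let _ : Algebra (CohB1.ProjSpace 1 k).functionField X.functionField := (K425.GenEtale.ffMap f e).toAlgebra
  rcases separable_or _ _ h2 with h | h
  · exact h
  · exfalso
    obtain ⟨q, hq⟩ := ExpChar.exists k
    obtain ⟨cY, hcY⟩ := Spec.map_surjective
      ((CohB1.ProjSpace 1 k).fromSpecStalk (genericPoint (CohB1.ProjSpace 1 k)) ≫ CohB1.ProjSpace.toSpec 1 k)
    have : ExpChar (CohB1.ProjSpace 1 k).functionField q :=
      expChar_of_injective_ringHom cY.hom.injective q
    have hfin : FiniteDimensional (CohB1.ProjSpace 1 k).functionField X.functionField :=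
      Module.finite_of_finrank_pos (by rw [h2]; norm_num)
    obtain ⟨n, hn⟩ := IsPurelyInseparable.finrank_eq_pow (F := (CohB1.ProjSpace 1 k).functionField)
      X.functionField q
    have hq' : q.Prime := by
      rcases expChar_is_prime_or_one k q with h3 | h3
      · exact h3
      · rw [h2, h3, one_pow] at hn
        omega
    have : Fact q.Prime := ⟨hq'⟩
    have hP : IsProper (CohB1.ProjSpace.toSpec 1 k) := K322.P1Deg.isProper_P1 k
    obtain ⟨r, i, hi⟩ := K322.FrobMain.exists_iso k q X (CohB1.ProjSpace 1 k) a (CohB1.ProjSpace.toSpec 1 k) hdX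
      (Groth.Agent.Models.H57.P1End.topologicalKrullDim_P1 k)
      (Groth.Agent.Dix.NormalLoc.stalk_of_smooth (CohB1.ProjSpace.toSpec 1 k)) f hf e h
    have h4 := genus_eq (iterateFrobenius k q r) a (CohB1.ProjSpace.toSpec 1 k) i hi
    have h5 : @Curv2.genus k _ (CohB1.ProjSpace 1 k) ⟨CohB1.ProjSpace.toSpec 1 k⟩ = 0 := K322.P1Deg.genus_P1 k
    omega

end K322.Separ
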