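import Groth.Agent.Curves.K322.Pencil
import Groth.Agent.Curves.K322.Separ
import Groth.Agent.Curves.K322.GenRes
import Groth.Agent.Ega3B.ProjFrame
import Groth.Agent.Ega1.AmpFam

/-!
# Hyperelliptic curves: the criterion by invertible modules
-/

set_option autoImplicit false
universe u
open CategoryTheory CategoryTheory.Limits AlgebraicGeometry TopologicalSpace

namespace K322.HypCrit

open Groth.Agent Groth.Agent.CurvesC.Gen Groth.Agent.CurvesC.GenPt Groth.Agent.CurvesC.ProjMap
open Groth.Agent.CurvesB.HZero Groth.Agent.CurvesC.ProjSpaceBasic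

/-- A finite morphism from a curve to the projective line sends the generic point to the generic point. -/
theorem map_generic_of_finite (k : Type u) [Field k] {X : Scheme.{u}} [IsIntegral X]
    (hdim : topologicalKrullDim X = 1) (f : X ⟶ CohB1.ProjSpace 1 k) [IsFinite f] :
    f (genericPoint X) = genericPoint (CohB1.ProjSpace 1 k) := by
  by_contra hcon
  have hcl := Picfga.CurvePts.isClosed_singleton_of_dim_le_one
    (Models.H57.P1End.topologicalKrullDim_P1 k).le hcon
  have h1 : ∀ x : X, f x = f (genericPoint X) := by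
    intro x
    have h2 : f (genericPoint X) ⤳ f x := (genericPoint_specializes x).map f.continuous
    exact h2.mem_closed hcl rfl
  have h2 : f ⁻¹' {f (genericPoint X)} = Set.univ := Set.eq_univ_of_forall h1
  have h3 := f.isDiscrete_preimage_singleton (f (genericPoint X))
  rw [h2, isDiscrete_univ_iff] at h3
  exact K322.Pencil.ne_generic hdim (isClosed_discrete {genericPoint X}) rfl

variable (k : Type u) [Field k] {X : Scheme.{u}} [X.Over (Spec (CommRingCat.of k))] [IsIntegral X]
  [IsProper (X ↘ (Spec (CommRingCat.of k)))]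

omit [IsIntegral X] in
/-- If `O(1)` pulls back to a module of nonzero degree, the latter has at least two independent sections. -/
theorem two_le_finrank (hdim : topologicalKrullDim X = 1) (f : X ⟶ CohB1.ProjSpace 1 k)
    {L : X.Modules} (hLe : L = (Scheme.Modules.pullback f).obj (Twist.twistProjSpace 1 k 1))
    (hL : PicF.IsInvertible L) (hdeg : Curv2.deg k X L 1 ≠ 0) : 2 ≤ Module.finrank k (Coh.HH X L 0) := by
  by_contra hlt
  push Not at hlt
  have hN : IsNoetherian X := VarietyB.DegFin.isNoetherian_of_isProper k X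
  have hfin : Module.Finite k (Coh.HH X L 0) :=
    Groth.Agent.S0002.result k X _ (Groth.Agent.S2329.isCoh_of_isInvertible hL) 0
  have h1 : Module.finrank k (Coh.HH X L 0) ≤ 1 := by omega
  obtain ⟨v, hv⟩ := finrank_le_one_iff.1 h1
  let τ : Γ(L, ⊤) := equivAdd L v
  have hτ : ∀ σ : Γ(L, ⊤), ∃ c : k, gl k X c • τ = σ := by
    intro σ
    obtain ⟨c, hc⟩ := hv ((equivAdd L).symm σ)
    refine ⟨c, ?_⟩
    rw [← equivAdd_smul_over (A := k) L c v, hc, AddEquiv.apply_symm_apply]
  have htop : loc τ = ⊤ := by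
    rw [eq_top_iff]
    intro x _
    by_contra hx
    have h3 : f x ∈ (⨆ i, Dp 1 k i : (CohB1.ProjSpace 1 k).Opens) := by
      rw [iSup_Dp 1 k]; trivial
    obtain ⟨i, hi⟩ := Opens.mem_iSup.1 h3
    have h4 : f x ∈ CohB1.genLocus _ (T 1 k i) :=
      (le_genLocus_iff _ _).2 (isGen_T 1 k i) hi
    subst hLe
    have h5 : x ∈ CohB1.genLocus _ (Fdesc.LocGen.pullHom f (T 1 k i)) := by
      rw [Ega1.AmpFam.genLocus_pullHom f (Ega3B.ProjFrame.isInvertible_twistProjSpace 1 k 1)]
      exact h4
    obtain ⟨c, hc⟩ := hτ (sec (Fdesc.LocGen.pullHom f (T 1 k i)) ⊤)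
    have h6 : gl k X c • τ ∈ nonGen hL x := Submodule.smul_mem _ _ hx
    rw [hc] at h6
    apply h6
    rw [loc, ofSec_sec]
    exact h5
  have hiso : IsIso (ofSec τ) := by
    rw [isIso_iff_isGen, ← le_genLocus_iff]
    exact htop.ge
  apply hdeg
  rw [← Dix.InterNum.deg_congr k X hdim (asIso (ofSec τ)), Dix.InterNum.deg_unit]

variable [Smooth (X ↘ (Spec (CommRingCat.of k)))]

include k in
theorem isPrincipalIdealRing_stalk (hdim : topologicalKrullDim X = 1) (x : X) :
    IsPrincipalIdealRing (X.presheaf.stalk x) := by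
  have hN : IsNoetherian X := VarietyB.DegFin.isNoetherian_of_isProper k X
  have := Picfga.CurvePts.valuationRing_stalk (X ↘ (Spec (CommRingCat.of k))) hdim.le x
  infer_instance

omit [Smooth (X ↘ (Spec (CommRingCat.of k)))] in
/-- The forward direction of the criterion. -/
theorem exists_invertible (hdim : topologicalKrullDim X = 1)
    (h0 : Module.finrank k (Coh.HH X (Coh.structureModule X) 0) = 1) (hg : 1 ≤ Curv2.genus k X)
    (f : X ⟶ CohB1.ProjSpace 1 k) [IsFinite f] (hf : f ≫ CohB1.ProjSpace.toSpec 1 k = X ↘ (Spec (CommRingCat.of k)))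
    (h2 : f.residueDegree (genericPoint X) = 2) :
    ∃ L : X.Modules, PicF.IsInvertible L ∧ Curv2.deg k X L 1 = 2 ∧ Module.finrank k (Coh.HH X L 0) = 2 := by
  have hT := Ega3B.ProjFrame.isInvertible_twistProjSpace 1 k 1
  have hL : PicF.IsInvertible ((Scheme.Modules.pullback f).obj (Twist.twistProjSpace 1 k 1)) :=
    Fdesc.LocGen.isInvertible_pullback f hT
  have hP : IsProper (CohB1.ProjSpace 1 k ↘ (Spec (CommRingCat.of k))) := K322.P1Deg.isProper_P1 k
  have hdeg : Curv2.deg k X ((Scheme.Modules.pullback f).obj (Twist.twistProjSpace 1 k 1)) 1 = 2 := by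
    have h := Groth.Agent.S7640.result k X (CohB1.ProjSpace 1 k) hdim
      (Models.H57.P1End.topologicalKrullDim_P1 k) f hf (map_generic_of_finite k hdim f) 1
      (Twist.twistProjSpace 1 k 1) (Ega2.QCohLocal.isFinLocFreeOfRank_one_iff.2 hT)
    have h1 := K322.P1Deg.deg_twist k 1
    rw [Nat.cast_one] at h1
    rw [h, h2, h1]
    norm_num
  refine ⟨_, hL, hdeg, ?_⟩
  have h3 := two_le_finrank k hdim f rfl hL (by rw [hdeg]; norm_num)
  have hnt : Nontrivial (Coh.HH X ((Scheme.Modules.pullback f).obj (Twist.twistProjSpace 1 k 1)) 0) :=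
    Module.nontrivial_of_finrank_pos (R := k) (by omega)
  obtain ⟨h4, h5⟩ := Groth.Agent.S1564.result k X hdim h0 _ hL hnt
  rw [hdeg] at h4 h5
  rcases h4.lt_or_eq with h6 | h6
  · omega
  · have := h5 h6 (by norm_num)
    omega

/-- The backward direction of the criterion. -/
theorem exists_map (hdim : topologicalKrullDim X = 1)
    (h0 : Module.finrank k (Coh.HH X (Coh.structureModule X) 0) = 1) (hg : 1 ≤ Curv2.genus k X)
    {L : X.Modules} (hL : PicF.IsInvertible L) (hdeg : Curv2.deg k X L 1 = 2)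
    (hfr : Module.finrank k (Coh.HH X L 0) = 2) :
    ∃ f : X ⟶ CohB1.ProjSpace 1 k, f ≫ CohB1.ProjSpace.toSpec 1 k = X ↘ (Spec (CommRingCat.of k)) ∧
      IsFinite f ∧ f.residueDegree (genericPoint X) = 2 ∧
      @Algebra.IsSeparable ((CohB1.ProjSpace 1 k).residueField (f (genericPoint X)))
        (X.residueField (genericPoint X)) _ _ (f.residueFieldMap (genericPoint X)).hom.toAlgebra := by
  have hP : IsProper (CohB1.ProjSpace 1 k ↘ (Spec (CommRingCat.of k))) := K322.P1Deg.isProper_P1 k
  have hT := Ega3B.ProjFrame.isInvertible_twistProjSpace 1 k 1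
  obtain ⟨f, hf, hfin, e, ⟨i⟩⟩ := K322.Pencil.exists_finite k hdim h0 hL hfr fun x hx hne =>
    K322.BasePt.basePointFree k hdim (isPrincipalIdealRing_stalk k hdim) h0 hg hL (by rw [hdeg])
      (by rw [hdeg, hfr]; norm_num) hx hne
  have hdeg2 : f.residueDegree (genericPoint X) = 2 := by
    have h := Groth.Agent.S7640.result k X (CohB1.ProjSpace 1 k) hdim
      (Models.H57.P1End.topologicalKrullDim_P1 k) f hf e 1
      (Twist.twistProjSpace 1 k 1) (Ega2.QCohLocal.isFinLocFreeOfRank_one_iff.2 hT)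
    have h1 := K322.P1Deg.deg_twist k 1
    rw [Nat.cast_one] at h1
    rw [Dix.InterNum.deg_congr k X hdim i, hdeg, h1, mul_one] at h
    exact_mod_cast h.symm
  refine ⟨f, hf, hfin, hdeg2, ?_⟩
  rw [K322.GenRes.isSeparable_iff f e]
  exact K322.Separ.isSeparable k X (X ↘ (Spec (CommRingCat.of k))) hdim hg f hf e
    (by rw [← K322.GenRes.residueDegree_eq f e]; exact hdeg2)

end K322.HypCrit
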