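import Groth.Agent.Curves.K322.HypAlg2
import Mathlib.LinearAlgebra.Dimension.Free

/-!
# The genus from the normal form
-/

set_option autoImplicit false

open Polynomial

namespace K322.HypAlg.NF

variable {k K : Type*} [Field k] [Field K] [Algebra k K] {t y : K} {n : ℕ} {A B : Subalgebra k K}
  (h : NF t y n A B)

include h

theorem aeval_mem (p : k[X]) : aeval t p ∈ A := (h.memA _).2 ⟨p, 0, by simp⟩

theorem aeval_inv_mem (p : k[X]) : aeval t⁻¹ p ∈ B := (h.memB _).2 ⟨p, 0, by simp⟩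

/-- the map `d ↦ t⁻⁽ⁿ⁻¹⁾ d(t) y` -/
noncomputable def mu (_h : NF t y n A B) : degreeLT k (n - 1) →ₗ[k] K :=
  (LinearMap.mulRight k y ∘ₗ LinearMap.mulLeft k (t⁻¹ ^ (n - 1)) ∘ₗ (aeval t).toLinearMap) ∘ₗ
    (degreeLT k (n - 1)).subtype

theorem mu_apply (d : degreeLT k (n - 1)) : h.mu d = t⁻¹ ^ (n - 1) * aeval t d.1 * y := rfl

/-- `t⁻⁽ⁿ⁻¹⁾ d(t) y ∈ A + B` implies `d = 0`. -/
theorem eq_zero_of_mem (d : k[X]) (hd : d.degree < ((n - 1 : ℕ) : WithBot ℕ)) (hn : 1 ≤ n) (a b : K)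
    (ha : a ∈ A) (hb : b ∈ B) (hab : t⁻¹ ^ (n - 1) * aeval t d * y = a + b) : d = 0 := by
  obtain ⟨p, q, rfl⟩ := (h.memA a).1 ha
  obtain ⟨p', q', rfl⟩ := (h.memB b).1 hb
  have t0 := h.t0
  set D := max p'.natDegree q'.natDegree with hD
  have hp : aeval t⁻¹ p' = t⁻¹ ^ D * aeval t (reflect D p') := by
    have := aeval_eq_reflect t⁻¹ (inv_ne_zero t0) D p' (le_max_left _ _)
    rwa [inv_inv] at this
  have hq : aeval t⁻¹ q' = t⁻¹ ^ D * aeval t (reflect D q') := by
    have := aeval_eq_reflect t⁻¹ (inv_ne_zero t0) D q' (le_max_right _ _)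
    rwa [inv_inv] at this
  rw [hp, hq] at hab
  obtain ⟨m, rfl⟩ : ∃ m, n = m + 1 := ⟨n - 1, by omega⟩
  rw [Nat.add_sub_cancel] at hab hd
  have h1 : aeval t (X ^ (m + 1 + D) * p + X ^ (m + 1) * reflect D p') +
      aeval t (X ^ (m + 1 + D) * q + reflect D q' - X ^ (D + 1) * d) * y = 0 := by
    have h2 : t ^ (m + 1 + D) * (t⁻¹ ^ m * aeval t d * y) = t ^ (m + 1 + D) * (aeval t p + aeval t q * y +
      (t⁻¹ ^ D * aeval t (reflect D p') + t⁻¹ ^ D * aeval t (reflect D q') * (t⁻¹ ^ (m + 1) * y))) := by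
      rw [hab]
    have e1 : t ^ (m + 1 + D) * (t⁻¹ ^ m * aeval t d * y) = t ^ (D + 1) * aeval t d * y := by
      simp only [inv_pow]
      field_simp
      ring
    have e2 : t ^ (m + 1 + D) * (aeval t p + aeval t q * y +
      (t⁻¹ ^ D * aeval t (reflect D p') + t⁻¹ ^ D * aeval t (reflect D q') * (t⁻¹ ^ (m + 1) * y))) =
      t ^ (m + 1 + D) * aeval t p + t ^ (m + 1 + D) * aeval t q * y + t ^ (m + 1) * aeval t (reflect D p') +
        aeval t (reflect D q') * y := by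
      simp only [inv_pow]
      field_simp
      ring
    rw [e1, e2] at h2
    simp only [map_add, map_sub, map_mul, map_pow, aeval_X]
    linear_combination -h2
  have h2 := sub_eq_zero.1 (h.ind _ _ h1).2
  ext j
  rw [coeff_zero]
  rcases lt_or_ge j m with hj | hj
  · have h3 := congrArg (fun f => coeff f (D + 1 + j)) h2
    simp only [coeff_add] at h3
    rw [coeff_X_pow_mul' d, if_pos (by omega), coeff_X_pow_mul' q, if_neg (by omega), zero_add,
      coeff_eq_zero_of_natDegree_lt (p := reflect D q')] at h3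
    · rw [Nat.add_sub_cancel_left] at h3
      exact h3.symm
    · refine lt_of_le_of_lt natDegree_reflect_le ?_
      have : q'.natDegree ≤ D := le_max_right _ _
      rw [max_eq_left this]
      omega
  · exact coeff_eq_zero_of_degree_lt (hd.trans_le (by exact_mod_cast hj))

/-- Decomposition of `t⁻ᴺ q(t) y`. -/
theorem exists_decomp (hn : 1 ≤ n) (N : ℕ) (hN : n ≤ N) (p q : k[X]) :
    ∃ (d : degreeLT k (n - 1)) (a b : K), a ∈ A ∧ b ∈ B ∧
      t⁻¹ ^ N * (aeval t p + aeval t q * y) = a + b + h.mu d := by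
  have t0 := h.t0
  obtain ⟨m, rfl⟩ : ∃ m, n = m + 1 := ⟨n - 1, by omega⟩
  obtain ⟨N', rfl⟩ : ∃ N', N = m + (N' + 1) := ⟨N - m - 1, by omega⟩
  -- divide `q` by `X ^ N`, then the remainder by `X ^ (N' + 1)`
  set r := q %ₘ X ^ (m + (N' + 1)) with hr
  set e := q /ₘ X ^ (m + (N' + 1)) with he
  have h1 : r + X ^ (m + (N' + 1)) * e = q := modByMonic_add_div q _
  set r' := r %ₘ X ^ (N' + 1) with hr'
  set d := r /ₘ X ^ (N' + 1) with hd
  have h2 : r' + X ^ (N' + 1) * d = r := modByMonic_add_div r _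
  have hrdeg : r.degree < ((m + (N' + 1) : ℕ) : WithBot ℕ) := by
    have := degree_modByMonic_lt q (monic_X_pow (R := k) (m + (N' + 1)))
    rwa [degree_X_pow] at this
  have hr'deg : r'.natDegree ≤ N' := by
    have h3 := degree_modByMonic_lt r (monic_X_pow (R := k) (N' + 1))
    rw [degree_X_pow] at h3
    by_cases h0 : r' = 0
    · rw [h0]; simp
    · exact Nat.lt_succ_iff.1 ((natDegree_lt_iff_degree_lt h0).2 h3)
  have hddeg : d.degree < ((m : ℕ) : WithBot ℕ) := by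
    by_cases hd0 : d = 0
    · rw [hd0, degree_zero]; exact WithBot.bot_lt_coe m
    · have h4 : d.natDegree = r.natDegree - (N' + 1) := by
        rw [hd, natDegree_divByMonic _ (monic_X_pow _), natDegree_X_pow]
      have hr0 : r ≠ 0 := by
        intro h5
        apply hd0
        rw [hd, h5, zero_divByMonic]
      have h5 : r.natDegree < m + (N' + 1) := (natDegree_lt_iff_degree_lt hr0).2 hrdeg
      rw [← natDegree_lt_iff_degree_lt hd0]
      rcases Nat.eq_zero_or_pos m with h6 | h6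
      · exfalso
        subst h6
        apply hd0
        rw [hd, divByMonic_eq_zero_iff (monic_X_pow _), degree_X_pow]
        simpa using hrdeg
      · omega
  refine ⟨⟨d, mem_degreeLT.2 (by simpa using hddeg)⟩, aeval t (p /ₘ X ^ (m + (N' + 1))) + aeval t e * y,
    aeval t⁻¹ (reflect (m + (N' + 1)) (p %ₘ X ^ (m + (N' + 1)))) +
      aeval t⁻¹ (reflect N' r') * (t⁻¹ ^ (m + 1) * y), (h.memA _).2 ⟨_, _, rfl⟩, (h.memB _).2 ⟨_, _, rfl⟩, ?_⟩
  rw [mu_apply, mul_add, split t t0 _ p]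
  have h3 : aeval t q = t ^ N' * aeval t⁻¹ (reflect N' r') + t ^ (N' + 1) * aeval t d +
      t ^ (m + (N' + 1)) * aeval t e := by
    rw [← h1, ← h2]
    simp only [map_add, map_mul, map_pow, aeval_X]
    rw [aeval_eq_reflect t t0 N' r' hr'deg]
  rw [h3]
  simp only [Nat.add_sub_cancel, inv_pow]
  field_simp
  ring

/-- **The genus from the normal form**: the dimension of `H¹` computed by the two charts. -/
theorem finrank_quotient (hn : 1 ≤ n) {V : Type*} [AddCommGroup V] [Module k V] (ι : V →ₗ[k] K)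
    (hι : Function.Injective ι) (hrange : ∀ z, z ∈ LinearMap.range ι ↔ ∃ N : ℕ, t ^ N * z ∈ A)
    (W : Submodule k V) (hW : ∀ v, v ∈ W ↔ ∃ a b, a ∈ A ∧ b ∈ B ∧ ι v = a + b) :
    Module.finrank k (V ⧸ W) = n - 1 := by
  have t0 := h.t0
  have hmem : ∀ d : degreeLT k (n - 1), h.mu d ∈ LinearMap.range ι := by
    intro d
    rw [hrange]
    refine ⟨n - 1, (h.memA _).2 ⟨0, d.1, ?_⟩⟩
    rw [mu_apply, map_zero, zero_add, ← mul_assoc, ← mul_assoc, ← mul_pow, mul_inv_cancel₀ t0, one_pow, one_mul]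
  let e := LinearEquiv.ofInjective ι hι
  let Ψ : degreeLT k (n - 1) →ₗ[k] V ⧸ W := W.mkQ ∘ₗ e.symm.toLinearMap ∘ₗ (h.mu.codRestrict _ hmem)
  have he : ∀ d, ι (e.symm (h.mu.codRestrict _ hmem d)) = h.mu d := by
    intro d
    exact congrArg Subtype.val (e.apply_symm_apply (h.mu.codRestrict _ hmem d))
  have hinj : Function.Injective Ψ := by
    rw [← LinearMap.ker_eq_bot, LinearMap.ker_eq_bot']
    intro d hd
    have h1 : e.symm (h.mu.codRestrict _ hmem d) ∈ W := (Submodule.Quotient.mk_eq_zero W).1 hd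
    obtain ⟨a, b, ha, hb, hab⟩ := (hW _).1 h1
    rw [he] at hab
    exact Subtype.ext (h.eq_zero_of_mem d.1 (mem_degreeLT.1 d.2) hn a b ha hb hab)
  have hsurj : Function.Surjective Ψ := by
    intro v
    obtain ⟨v, rfl⟩ := W.mkQ_surjective v
    obtain ⟨N, hN⟩ := (hrange (ι v)).1 ⟨v, rfl⟩
    have hN' : t ^ (N + n) * ι v ∈ A := by
      rw [add_comm, pow_add, mul_assoc]
      exact mul_mem (pow_mem h.t_mem n) hN
    obtain ⟨p, q, hpq⟩ := (h.memA _).1 hN'
    have h1 : ι v = t⁻¹ ^ (N + n) * (aeval t p + aeval t q * y) := by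
      rw [← hpq, ← mul_assoc, ← mul_pow, inv_mul_cancel₀ t0, one_pow, one_mul]
    obtain ⟨d, a, b, ha, hb, hab⟩ := h.exists_decomp hn (N + n) (Nat.le_add_left _ _) p q
    refine ⟨d, ?_⟩
    change W.mkQ (e.symm (h.mu.codRestrict _ hmem d)) = W.mkQ v
    rw [← sub_eq_zero, ← map_sub, Submodule.mkQ_apply, Submodule.Quotient.mk_eq_zero, hW]
    refine ⟨-a, -b, neg_mem ha, neg_mem hb, ?_⟩
    rw [map_sub, he, h1, hab]
    ring
  rw [← (LinearEquiv.ofBijective Ψ ⟨hinj, hsurj⟩).finrank_eq, (degreeLTEquiv k (n - 1)).finrank_eq,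
    Module.finrank_fin_fun]

end K322.HypAlg.NF
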