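import Groth.Agent.Curves.K322.BasePt
import Groth.Agent.Curves.K322.P1Deg
import Groth.Agent.CurvesC.VeryAmple
import Groth.Agent.S7640
import Groth.Agent.Picfga.CurvePts

/-!
# Base point free pencils and finite morphisms to the projective line
-/

set_option autoImplicit false
universe u
open CategoryTheory CategoryTheory.Limits AlgebraicGeometry TopologicalSpace

namespace K322.Pencil

open Groth.Agent Groth.Agent.CurvesC.Gen Groth.Agent.CurvesC.GenPt Groth.Agent.CurvesC.ProjMap
open Groth.Agent.CurvesB.HZero Groth.Agent.CurvesC.ProjSpaceBasic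

variable (k : Type u) [Field k] {X : Scheme.{u}} [X.Over (Spec (CommRingCat.of k))] [IsIntegral X]
  [IsProper (X ↘ (Spec (CommRingCat.of k)))]

omit [X.Over (Spec (CommRingCat.of k))] [IsProper (X ↘ (Spec (CommRingCat.of k)))] in
theorem map_generic {φ : X ⟶ CohB1.ProjSpace 1 k} (hne : ∀ i, φ ⁻¹ᵁ Dp 1 k i ≠ ⊤) :
    φ (genericPoint X) = genericPoint (CohB1.ProjSpace 1 k) := by
  by_contra hcon
  have hcl := Picfga.CurvePts.isClosed_singleton_of_dim_le_one
    (Models.H57.P1End.topologicalKrullDim_P1 k).le hcon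
  have h1 : ∀ x : X, φ x = φ (genericPoint X) := by
    intro x
    have h2 : φ (genericPoint X) ⤳ φ x := (genericPoint_specializes x).map φ.continuous
    exact h2.mem_closed hcl rfl
  have h3 : φ (genericPoint X) ∈ (⨆ i, Dp 1 k i : (CohB1.ProjSpace 1 k).Opens) := by
    rw [iSup_Dp 1 k]; trivial
  obtain ⟨i, hi⟩ := Opens.mem_iSup.1 h3
  apply hne i
  rw [eq_top_iff]
  intro x _
  change φ x ∈ Dp 1 k i
  rw [h1]
  exact hi

omit [X.Over (Spec (CommRingCat.of k))] [IsProper (X ↘ (Spec (CommRingCat.of k)))] in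
theorem ne_generic (hdim : topologicalKrullDim X = 1) {x : X} (hx : IsClosed ({x} : Set X)) :
    x ≠ genericPoint X := by
  rintro rfl
  have h1 : ∀ z : X, z = genericPoint X := fun z => (genericPoint_specializes z).mem_closed hx rfl
  have h2 : Subsingleton (IrreducibleCloseds X) := by
    refine ⟨fun a b ↦ ?_⟩
    have : ∀ c : IrreducibleCloseds X, (c : Set X) = {genericPoint X} := by
      intro c
      ext x
      obtain ⟨y, hy⟩ := c.isIrreducible.nonempty
      rw [h1 x]
      rw [h1 y] at hy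
      simp [hy]
    exact IrreducibleCloseds.ext ((this a).trans (this b).symm)
  have h3 : topologicalKrullDim X ≤ 0 := Order.krullDim_nonpos_of_subsingleton
  rw [hdim] at h3
  norm_cast at h3

/-- A base point free pencil gives a finite morphism to the projective line. -/
theorem exists_finite (hdim : topologicalKrullDim X = 1)
    (h0 : Module.finrank k (Coh.HH X (Coh.structureModule X) 0) = 1)
    {L : X.Modules} (hL : PicF.IsInvertible L) (hfr : Module.finrank k (Coh.HH X L 0) = 2)
    (hb : ∀ x : X, IsClosed ({x} : Set X) → x ≠ genericPoint X →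
      ∃ s : Coh.structureModule X ⟶ L, x ∈ CohB1.genLocus L s) :
    ∃ φ : X ⟶ CohB1.ProjSpace 1 k, φ ≫ CohB1.ProjSpace.toSpec 1 k = X ↘ (Spec (CommRingCat.of k)) ∧
      IsFinite φ ∧ φ (genericPoint X) = genericPoint (CohB1.ProjSpace 1 k) ∧
      Nonempty ((Scheme.Modules.pullback φ).obj (Twist.twistProjSpace 1 k 1) ≅ L) := by
  have hN : IsNoetherian X := VarietyB.DegFin.isNoetherian_of_isProper k X
  have hfin : Module.Finite k (Coh.HH X L 0) := Module.finite_of_finrank_pos (by rw [hfr]; norm_num)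
  let b := Module.finBasisOfFinrankEq k (Coh.HH X L 0) hfr
  let σ : Fin (1 + 1) → Γ(L, ⊤) := fun i => equivAdd L (b i)
  have hσ0 : ∀ i, σ i ≠ 0 := fun i h => b.ne_zero i ((equivAdd L).injective (h.trans (map_zero _).symm))
  have hspan : ∀ r : Γ(L, ⊤), ∃ c : Fin (1 + 1) → k, r = ∑ j, gl k X (c j) • σ j := by
    intro r
    refine ⟨fun j => b.repr ((equivAdd L).symm r) j, ?_⟩
    have h := congrArg (equivAdd L) (b.sum_repr ((equivAdd L).symm r))
    rw [AddEquiv.apply_symm_apply, map_sum] at h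
    refine h.symm.trans ?_
    apply Finset.sum_congr rfl
    intro j _
    exact equivAdd_smul_over (A := k) L _ _
  have hne : ∀ i, loc (σ i) ≠ ⊤ := by
    intro i h
    have hiso : IsIso (ofSec (σ i)) := by
      rw [isIso_iff_isGen, ← le_genLocus_iff]
      exact h.ge
    have h2 := (CurvesA.HHMap.equivOver k (asIso (ofSec (σ i))) 0).finrank_eq
    rw [h0, hfr] at h2
    omega
  let s : Fin (1 + 1) → (Coh.structureModule X ⟶ L) := fun i => ofSec (σ i)
  have hcov : ⨆ i, CohB1.genLocus L (s i) = ⊤ := by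
    rw [eq_top_iff]
    intro x _
    by_contra hx
    -- a closed point in the closure of `x`
    obtain ⟨y, hyx, hy⟩ : ∃ y : X, x ⤳ y ∧ IsClosed ({y} : Set X) := by
      obtain ⟨y, hy1, hy2⟩ := IsClosed.exists_closed_singleton (S := closure {x}) isClosed_closure
        ⟨x, subset_closure rfl⟩
      exact ⟨y, specializes_iff_mem_closure.2 hy1, hy2⟩
    have hyn : ∀ i, σ i ∈ nonGen hL y := fun i hi => hx (Opens.mem_iSup.2 ⟨i, hyx.mem_open (CohB1.genLocus L (s i)).2 hi⟩)
    have hyg : y ≠ genericPoint X := ne_generic hdim hy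
    obtain ⟨t, ht⟩ := hb y hy hyg
    obtain ⟨c, hc⟩ := hspan (sec t ⊤)
    have h1 : sec t ⊤ ∈ nonGen hL y := by
      rw [hc]
      exact Submodule.sum_mem (nonGen hL y) (fun j _ => Submodule.smul_mem _ (gl k X (c j)) (hyn j))
    apply h1
    rw [loc, ofSec_sec]
    exact ht
  obtain ⟨φ, hφ, hφg, hpre, -, e, -⟩ := exists_morphism (X ↘ (Spec (CommRingCat.of k))) L s hcov
  have hprop : IsProper φ := by
    have : IsProper (φ ≫ CohB1.ProjSpace.toSpec 1 k) := hφg ▸ inferInstance
    exact IsProper.of_comp φ (CohB1.ProjSpace.toSpec 1 k)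
  have hne' : ∀ i, φ ⁻¹ᵁ Dp 1 k i ≠ ⊤ := fun i h => hne i ((hpre i).symm.trans h)
  have hfin : IsFinite φ := CurvesC.FinMap.isFinite_of_cover φ hdim.le (Dp 1 k) (iSup_Dp 1 k) hne'
  exact ⟨φ, hφg, hfin, map_generic k hne', ⟨e⟩⟩

end K322.Pencil
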