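import Groth.Agent.Vancyc.H680.Punctual
import Groth.Agent.Sga4h.EulerPoint
import Groth.Agent.Sga4B.CurveCard
import Groth.Agent.Models.H73.CurveCount

/-!
# Global sections of an étale sheaf supported at finitely many closed points

`card_H0`: `#H⁰(X, F) = ∏ #F_x` for `F` supported on a finite set of closed points with separably closed residue
fields.
-/

set_option autoImplicit false
universe u
open CategoryTheory CategoryTheory.Limits CategoryTheory.Abelian AlgebraicGeometry Opposite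

namespace K322.PunctSum

open Groth.Agent Groth.Agent.CurvesA.SkyPoint Groth.Agent.CurvesA.SkyAcyclic Groth.Agent.CurvesA.Punctual
  Groth.Agent.EtpbcA.Artin Groth.Agent.Vancyc.H680.Punctual Groth.Agent.Sga4B.CurveCard

variable {X : Scheme.{u}}

/-- One point. -/
theorem card_H0_one {Ω : Type u} [Field Ω] [IsSepClosed Ω] (ξ : Spec (CommRingCat.of Ω) ⟶ X)
    (hcl : IsClosed ({ξ default} : Set X)) (hsc : IsSepClosed (X.residueField (ξ default)))
    (F : EtCoh.Ab X) (hF : EtPBC.supp F ⊆ {ξ default}) :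
    Nat.card (EtCoh.H X F 0) = Nat.card ((EtCoh.stalk ξ).obj F : AddCommGrpCat.{u + 1}) :=
  (Nat.card_congr (Sheaf.H.equiv₀ _ (EtCore.topIsTerminal X)).toEquiv).trans
    (Nat.card_congr (Equiv.ofBijective _ (germ_bijective ξ hcl hsc F hF)))

/-- A point of a closed support at which the skyscraper sheaf vanishes. -/
theorem supp_sky {Ω : Type u} [Field Ω] [IsSepClosed Ω] (ξ : Spec (CommRingCat.of Ω) ⟶ X)
    (hcl : IsClosed ({ξ default} : Set X)) (A : AddCommGrpCat.{u + 1}) :
    EtPBC.supp ((sky ξ).obj A) ⊆ {ξ default} := by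
  intro y hy
  by_contra h
  obtain ⟨Ω', _, _, ζ, hζ⟩ := Etcore.Stalks.exists_geom y
  have hz := isZero_stalk_sky ξ hcl ζ (by rw [hζ]; exact h) A
  rw [stalk_isZero_iff, hζ] at hz
  exact (not_mem_supp_iff _ y).2 hz hy

/-- The kernel of `F ⟶ sky_x F_x`. -/
theorem supp_kernel {Ω : Type u} [Field Ω] [IsSepClosed Ω] (ξ : Spec (CommRingCat.of Ω) ⟶ X)
    (F : EtCoh.Ab X) (T : Set X) (hF : EtPBC.supp F ⊆ insert (ξ default) T) :
    EtPBC.supp (kernel (unitSky ξ F)) ⊆ T := by
  intro y hy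
  by_contra h
  refine (not_mem_supp_iff _ y).2 ?_ hy
  by_cases hyx : ξ default = y
  · rw [← hyx, ← stalk_isZero_iff]
    have h1 : Mono ((EtCoh.stalk ξ).map (unitSky ξ F)) := by
      rw [AddCommGrpCat.mono_iff_injective]
      intro a b hab
      have h := unit_counit ξ F
      have h1 := ConcreteCategory.congr_hom h a
      have h2 := ConcreteCategory.congr_hom h b
      rw [ConcreteCategory.comp_apply] at h1 h2
      have e1 : ((skyAdj ξ).counit.app ((EtCoh.stalk ξ).obj F)) ((EtCoh.stalk ξ).map (unitSky ξ F) a) = a := h1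
      have e2 : ((skyAdj ξ).counit.app ((EtCoh.stalk ξ).obj F)) ((EtCoh.stalk ξ).map (unitSky ξ F) b) = b := h2
      rw [← e1, ← e2]
      exact congrArg _ hab
    have h2 : (EtCoh.stalk ξ).map (kernel.ι (unitSky ξ F)) ≫ (EtCoh.stalk ξ).map (unitSky ξ F) = 0 := by
      rw [← Functor.map_comp, kernel.condition, Functor.map_zero]
    have h3 : (EtCoh.stalk ξ).map (kernel.ι (unitSky ξ F)) = 0 := by
      rw [← cancel_mono ((EtCoh.stalk ξ).map (unitSky ξ F)), h2, zero_comp]
    have h4 : Mono ((EtCoh.stalk ξ).map (kernel.ι (unitSky ξ F))) := inferInstance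
    exact IsZero.of_mono_eq_zero _ h3
  · have h1 : y ∉ EtPBC.supp F := fun h2 => by
      rcases hF h2 with h3 | h3
      · exact hyx h3.symm
      · exact h h3
    obtain ⟨Ω', _, _, ζ, hζ⟩ := Etcore.Stalks.exists_geom y
    have hz : IsZero ((EtCoh.stalk ζ).obj F) := isZero_stalk_of_not_mem h1 ζ hζ
    rw [← hζ, ← stalk_isZero_iff]
    have h4 : Mono ((EtCoh.stalk ζ).map (kernel.ι (unitSky ξ F))) := inferInstance
    exact IsZero.of_mono ((EtCoh.stalk ζ).map (kernel.ι (unitSky ξ F))) hz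

theorem shortExact_sky {Ω : Type u} [Field Ω] [IsSepClosed Ω] (ξ : Spec (CommRingCat.of Ω) ⟶ X)
    (hcl : IsClosed ({ξ default} : Set X)) (hsc : IsSepClosed (X.residueField (ξ default)))
    (F : EtCoh.Ab X) : (ShortComplex.mk (kernel.ι (unitSky ξ F)) (unitSky ξ F)
      (kernel.condition _)).ShortExact := by
  have h1 := epi_unit ξ hcl hsc F
  refine ShortComplex.ShortExact.mk' ?_ inferInstance h1
  exact ShortComplex.exact_of_f_is_kernel _ (kernelIsKernel (unitSky ξ F))

/-- Cardinalities in a short exact sequence of `Hom`s. -/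
theorem card_ext_zero {𝒜 : Type*} [Category* 𝒜] [Abelian 𝒜] [HasExt 𝒜] {S : ShortComplex 𝒜}
    (hS : S.ShortExact) (P : 𝒜) (h : Subsingleton (Ext P S.X₁ 1)) :
    Nat.card (Ext P S.X₂ 0) = Nat.card (Ext P S.X₁ 0) * Nat.card (Ext P S.X₃ 0) := by
  have hm : Mono S.f := hS.mono_f
  refine Sga4h.EulerCount.card_short (po P S.f 0) (po P S.g 0)
    (Ext.postcomp_mk₀_injective_of_mono P S.f) ?_ ?_
  · intro x
    rw [← AddMonoidHom.coe_range, SetLike.mem_coe, range_f_eq hS P 0, AddMonoidHom.mem_ker]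
  · intro x
    obtain ⟨y, hy⟩ := Ext.covariant_sequence_exact₃ P hS x rfl (Subsingleton.elim _ _)
    exact ⟨y, hy⟩

/-- `#H⁰(X, F) = ∏ #F_x`. -/
theorem card_H0 {Ω : Type u} [Field Ω] [IsSepClosed Ω] (c : X → ℕ) (T : Finset X)
    (hT : ∀ x ∈ T, IsClosed ({x} : Set X))
    (hT' : ∀ x ∈ T, IsSepClosed (X.residueField x)) (F : EtCoh.Ab X) (hF : EtPBC.supp F ⊆ T)
    (hc : ∀ x ∈ T, ∃ ξ : Spec (CommRingCat.of Ω) ⟶ X, ξ default = x ∧
      Nat.card ((EtCoh.stalk ξ).obj F : AddCommGrpCat.{u + 1}) = c x) :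
    Nat.card (EtCoh.H X F 0) = ∏ x ∈ T, c x := by
  classical
  induction T using Finset.induction_on generalizing F with
  | empty =>
    have h : IsZero F := isZero_of_forall F fun x hx => by simpa using hF hx
    have h1 : Subsingleton (EtCoh.H X F 0) := by
      refine ⟨fun a b => ?_⟩
      obtain ⟨a, rfl⟩ := Ext.homEquiv₀.symm.surjective a
      obtain ⟨b, rfl⟩ := Ext.homEquiv₀.symm.surjective b
      rw [h.eq_of_tgt a b]
    rw [Finset.prod_empty]
    exact Nat.card_eq_one_iff_unique.2 ⟨h1, ⟨0⟩⟩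
  | insert x T hx ih =>
    obtain ⟨ξ, hξ, hcx⟩ := hc x (Finset.mem_insert_self x T)
    have hcl : IsClosed ({ξ default} : Set X) := by
      rw [hξ]; exact hT x (Finset.mem_insert_self x T)
    have hsc : IsSepClosed (X.residueField (ξ default)) := by
      rw [hξ]; exact hT' x (Finset.mem_insert_self x T)
    have hS := shortExact_sky ξ hcl hsc F
    have hK : EtPBC.supp (kernel (unitSky ξ F)) ⊆ T := by
      refine supp_kernel ξ F T (hF.trans ?_)
      rw [Finset.coe_insert, hξ]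
    have h1 : Subsingleton (EtCoh.H X (kernel (unitSky ξ F)) 1) :=
      van_of_finite_supp T (fun y hy => hT y (Finset.mem_insert_of_mem hy))
        (fun y hy => hT' y (Finset.mem_insert_of_mem hy)) _ hK 1 one_pos
    have h2 := card_ext_zero hS (EtCoh.const X ℤ) h1
    have h3 := ih (fun y hy => hT y (Finset.mem_insert_of_mem hy))
      (fun y hy => hT' y (Finset.mem_insert_of_mem hy)) (kernel (unitSky ξ F)) hK (fun y hy => by
        obtain ⟨ζ, hζ, hcy⟩ := hc y (Finset.mem_insert_of_mem hy)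
        refine ⟨ζ, hζ, ?_⟩
        rw [← hcy, Sga4h.EulerPoint.card_stalk ζ hS]
        have hz := isZero_stalk_sky ξ hcl ζ (by
          rw [hζ, hξ]
          rintro rfl
          exact hx hy) ((EtCoh.stalk ξ).obj F)
        have h4 := AddCommGrpCat.subsingleton_of_isZero hz
        have h5 : Nat.card ((EtCoh.stalk ζ).obj ((sky ξ).obj ((EtCoh.stalk ξ).obj F)) :
            AddCommGrpCat.{u + 1}) = 1 := Nat.card_eq_one_iff_unique.2 ⟨h4, ⟨0⟩⟩
        exact ((congrArg (Nat.card ((EtCoh.stalk ζ).obj (kernel (unitSky ξ F)) :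
          AddCommGrpCat.{u + 1}) * ·) h5).trans (mul_one _)).symm)
    have h6 : Nat.card (EtCoh.H X ((sky ξ).obj ((EtCoh.stalk ξ).obj F)) 0) = c x := by
      rw [card_H0_one ξ hcl hsc _ (supp_sky ξ hcl _), ← hcx]
      have h7 := Sga4h.EulerPoint.card_stalk ξ hS
      have h8 : IsZero ((EtCoh.stalk ξ).obj (kernel (unitSky ξ F))) := by
        refine isZero_stalk_of_not_mem (x := ξ default) (fun h => ?_) ξ rfl
        exact hx (hξ ▸ hK h)
      have h9 := AddCommGrpCat.subsingleton_of_isZero h8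
      have h10 : Nat.card ((EtCoh.stalk ξ).obj (kernel (unitSky ξ F)) :
            AddCommGrpCat.{u + 1}) = 1 := Nat.card_eq_one_iff_unique.2 ⟨h9, ⟨0⟩⟩
      refine Eq.trans ?_ h7.symm
      exact ((congrArg (· * Nat.card ((EtCoh.stalk ξ).obj ((sky ξ).obj ((EtCoh.stalk ξ).obj F)) :
          AddCommGrpCat.{u + 1})) h10).trans (one_mul _)).symm
    rw [Finset.prod_insert hx, ← h6, ← h3, mul_comm]
    exact h2

end K322.PunctSum
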