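import Groth.Agent.Models.H73.SmoothCount
import Groth.Agent.Models.H36.H1Sum
import Groth.Agent.Fga.EulerLEAdd

/-!
# `#H¹(X, ℤ/n) = n^(2 h¹(X, O))` for `X` smooth and proper of dimension `≤ 1` (not necessarily connected)
-/

set_option autoImplicit false
universe u
open CategoryTheory CategoryTheory.Limits AlgebraicGeometry Opposite TopologicalSpace

namespace K322.TorSmooth

open Groth.Agent Groth.Agent.Models.H73 Groth.Agent.Models.H73.SmoothCount

section Sum

variable {X : Scheme.{u}} {n : ℕ} (W : Fin n → X.Opens)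
    (hd : ∀ i j, i ≠ j → Disjoint (W i : Set X) (W j)) (hc : ∀ x : X, ∃ i, x ∈ W i)

include hc in
theorem ext_of_app {s t : Γ(X, ⊤)} (h : ∀ i, (W i).ι.appTop s = (W i).ι.appTop t) : s = t := by
  refine TopCat.Sheaf.eq_of_locally_eq' X.sheaf W ⊤ (fun i => homOfLE le_top) (fun x _ => by
    obtain ⟨i, hi⟩ := hc x
    exact Opens.mem_iSup.2 ⟨i, hi⟩) s t fun i => ?_
  have h1 := h i
  have e : ∀ r : Γ(X, ⊤), (W i).ι.appTop r = (W i).topIso.inv (X.presheaf.map (homOfLE (le_top : W i ≤ ⊤)).op r) := by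
    intro r
    rw [← ConcreteCategory.comp_apply]
    congr 2
    rw [Scheme.Hom.appTop, Scheme.Opens.ι_app, Scheme.Opens.topIso_inv]
    exact (congrArg X.presheaf.map (Subsingleton.elim _ _)).trans (X.presheaf.map_comp _ _)
  rw [e, e] at h1
  exact (ConcreteCategory.bijective_of_isIso (W i).topIso.inv).1 h1

include hd hc in
theorem exists_idem : ∃ e : Fin n → Γ(X, ⊤), ∑ i, e i = 1 ∧
    ∀ i, ∀ y ∈ X.basicOpen (e i), y ∈ W i := by
  classical
  choose e he using fun i : Fin n => Disj.exists_glue W hd hc ⊤ (fun j => if i = j then 1 else 0)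
  refine ⟨e, ?_, ?_⟩
  · refine ext_of_app W hc fun j => ?_
    rw [map_sum, map_one]
    have h1 : ∀ i, (W j).ι.appTop (e i) = if i = j then 1 else 0 := fun i => he i j
    simp only [h1]
    rw [Finset.sum_ite_eq' Finset.univ j]
    simp
  · intro i y hy
    obtain ⟨j, hj⟩ := hc y
    by_cases hij : i = j
    · rw [hij]; exact hj
    · exfalso
      have h1 : (W j).ι.appTop (e i) = 0 := (he i j).trans (if_neg hij)
      have h2 : (⟨y, hj⟩ : W j) ∈ (W j).ι ⁻¹ᵁ X.basicOpen (e i) := hy
      rw [Scheme.preimage_basicOpen_top, h1, Scheme.basicOpen_zero] at h2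
      exact h2

include hd hc in
theorem genus_le_sum {k : Type u} [Field k] (p : X ⟶ Spec (CommRingCat.of k)) [IsProper p] [IsReduced X]
    (hdim : topologicalKrullDim X ≤ 1) :
    Models.curveGenus k X p ≤ ∑ i, Models.curveGenus k (W i) ((W i).ι ≫ p) := by
  let _ : X.Over (Spec (CommRingCat.of k)) := ⟨p⟩
  let _ : ∀ i, (W i : Scheme.{u}).Over (Spec (CommRingCat.of k)) := fun i => ⟨(W i).ι ≫ p⟩
  have hci := Disj.isClosedImmersion_ι W hd hc
  have : IsProper (X ↘ Spec (CommRingCat.of k)) := ‹IsProper p›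
  obtain ⟨e, he, he'⟩ := exists_idem W hd hc
  exact Models.H36.H1Sum.genus_le_sum k hdim (𝟙 X) (Category.id_comp _) ⊤ dense_univ inferInstance
    (fun i => (W i : Scheme.{u})) (fun i => (W i).ι) (fun i => rfl) e he (fun i y hy => by
      refine ⟨⟨y, he' i y hy⟩, rfl⟩)

end Sum

variable {k : Type u} [Field k] [IsAlgClosed k]

/-- The integral case. -/
theorem card_H1_of_integral {W : Scheme.{u}} [IsIntegral W] (p : W ⟶ Spec (CommRingCat.of k))
    [IsProper p] [Smooth p] (hdim : topologicalKrullDim W ≤ 1) (n : ℕ) (hn : (n : k) ≠ 0) :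
    Nat.card (EtCoh.H W (EtCoh.const W (ZMod n)) 1) = n ^ (2 * Models.curveGenus k W p) := by
  have hn0 : 0 < n := Nat.pos_of_ne_zero (by rintro rfl; simp at hn)
  have : IsNoetherian W := CurvesA.ClosedPtSep.isNoetherian p
  by_cases h : topologicalKrullDim W < ((1 : ℕ) : WithBot ℕ∞)
  · have := subsingleton_H_of_dim_lt_one p h (EtCoh.const W (ZMod n)) 1 one_pos
    rw [Nat.card_of_subsingleton (0 : EtCoh.H W (EtCoh.const W (ZMod n)) 1)]
    let _ : W.Over (Spec (CommRingCat.of k)) := ⟨p⟩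
    have h1 : Subsingleton (Coh.HH W (Coh.structureModule W) 1) :=
      Fga.EulerLEAdd.subsingleton_HH W 0 (by
        have h2 : topologicalKrullDim W < 1 := h
        rcases le_or_gt (topologicalKrullDim W) 0 with h3 | h3
        · exact h3
        · exfalso
          revert h2 h3
          cases topologicalKrullDim W with
          | bot => intro _ h3; exact absurd h3 (by simp)
          | coe a =>
            intro h2 h3
            have h2' : a < 1 := by exact_mod_cast h2
            have h3' : 0 < a := by exact_mod_cast h3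
            rw [Order.lt_one_iff] at h2'
            simp [h2'] at h3') _ 1 one_pos
    have h2 : Models.curveGenus k W p = 0 := Module.finrank_zero_of_subsingleton
    rw [h2, mul_zero, pow_zero]
  · have hd : topologicalKrullDim W = 1 := le_antisymm hdim (by simpa using h)
    obtain ⟨e⟩ := CurvesA.MuConst.nonempty_iso_const_mu_of_isSepClosed k n hn p
    let e1 : EtCoh.H W (EtCoh.const W (ZMod n)) 1 ≃+ EtCoh.H W (EtCoh.mu W n) 1 :=
      ((EtCoh.HF W 1).mapIso e).addCommGroupIsoToAddEquiv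
    rw [Nat.card_congr e1.toEquiv]
    let _ : W.Over (Spec (CommRingCat.of k)) := ⟨p⟩
    exact Etcore.CurveH1U.card_H1_mu W ⟨‹_›, ‹_›, ‹_›, hd⟩ n hn

/-- `#H¹(X, ℤ/n) = n^(2 h¹(X, O))`. -/
theorem card_H1 {X : Scheme.{u}} (p : X ⟶ Spec (CommRingCat.of k)) [IsProper p] [Smooth p] [IsReduced X]
    (hdim : topologicalKrullDim X ≤ 1) (n : ℕ) (hn : (n : k) ≠ 0) :
    Nat.card (EtCoh.H X (EtCoh.const X (ZMod n)) 1) = n ^ (2 * Models.curveGenus k X p) := by
  have hn0 : 0 < n := Nat.pos_of_ne_zero (by rintro rfl; simp at hn)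
  have : IsNoetherian X := CurvesA.ClosedPtSep.isNoetherian p
  have hsep : X.IsSeparated := by
    constructor
    rw [← terminal.comp_from p]
    infer_instance
  obtain ⟨m, W, hd, hc, g1, g2, g3, g4⟩ := exists_pieces p hdim
  obtain ⟨a⟩ := Disj.nonempty_equiv_of_cover W hd hc (ZMod n) 1
  have h1 : ∀ i, Nat.card (EtCoh.H (W i) (EtCoh.const (W i : Scheme.{u}) (ZMod n)) 1) =
      n ^ (2 * Models.curveGenus k (W i) ((W i).ι ≫ p)) := fun i =>
    card_H1_of_integral ((W i).ι ≫ p) (g4 i) n hn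
  obtain ⟨U, V, hU, hV, hcov⟩ := exists_affine_cover X hdim
  have h2 := DisjCoh.sum_genus_le W hd hc p hU hV hcov (by
    let _ : X.Over (Spec (CommRingCat.of k)) := ⟨p⟩
    have : IsProper (X ↘ Spec (CommRingCat.of k)) := ‹IsProper p›
    exact S0002.result k X (Coh.structureModule X) (Fdesc.StructMod.isCoh_structureModule X) 1)
  have h3 := genus_le_sum W hd hc p hdim
  rw [Nat.card_congr a.toEquiv, Nat.card_pi, Finset.prod_congr rfl fun i _ => h1 i,
    Finset.prod_pow_eq_pow_sum, ← Finset.mul_sum, le_antisymm h2 h3]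

end K322.TorSmooth
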