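import Groth.Agent.Old.H11.NthRoot
import Groth.Agent.PerfA.H0AlgClosed
import Groth.Agent.Sga4h.FinGen
import Groth.Agent.Flat2C.GenericReduced
import Groth.Agent.Etcore.GlobalUnits
import Groth.Agent.Models.H73.PicCount

/-!
# Torsion of the Picard group of a connected proper scheme over an algebraically closed field

* `exists_root`: every global unit is an `n`-th power, `n` invertible;
* `card_pic_tors`: `#Pic(X)[n] = #H¹(X, ℤ/n)`.
-/

set_option autoImplicit false
universe u
open CategoryTheory CategoryTheory.Limits CategoryTheory.Abelian AlgebraicGeometry Opposite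

namespace K322.TorUnits

open Groth.Agent Groth.Agent.Etcore.Herbrand Groth.Agent.Sga4B.KummerH1

variable {k : Type u} [Field k] [IsAlgClosed k] {X : Scheme.{u}}

/-- Global units are `n`-th powers. -/
theorem exists_root (f : X ⟶ Spec (CommRingCat.of k)) [IsProper f] [ConnectedSpace X] (n : ℕ)
    (hn : (n : k) ≠ 0) (u : (Γ(X, ⊤))ˣ) : ∃ v : (Γ(X, ⊤))ˣ, v ^ n = u := by
  have hn0 : n ≠ 0 := by rintro rfl; simp at hn
  have hc : CompactSpace X := compactSpace_of_universallyClosed f
  let r := X.nilradical.subschemeι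
  have hr : IsReduced X.nilradical.subscheme := Flat2C.GenericReduced.isReduced_subscheme_nilradical X
  have hs : Surjective r := Sga4h.FinGen.surjective_nilradical_subschemeι X
  have hcon : ConnectedSpace X.nilradical.subscheme := by
    have e : X.nilradical.subscheme ≃ₜ X :=
      (r.isClosedEmbedding.toIsEmbedding.toHomeomorph.trans
        ((Homeomorph.setCongr r.surjective.range_eq).trans (Homeomorph.Set.univ _)))
    exact e.symm.surjective.connectedSpace e.symm.continuous
  have hb := PerfA.H0AlgClosed.bijective_str_of_isAlgClosed (r ≫ f)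
  have hcomp : ∀ c : k, PerfA.CechH0.str (r ≫ f) ⊤ c = r.appTop.hom (PerfA.CechH0.str f ⊤ c) := by
    intro c
    have e1 : ∀ {Z : Scheme.{u}} (g : Z ⟶ Spec (CommRingCat.of k)), PerfA.CechH0.str g ⊤ c =
        g.appTop.hom ((Scheme.ΓSpecIso (CommRingCat.of k)).inv.hom c) := by
      intro Z g
      have h3 : g.appLE ⊤ ⊤ (PerfA.CechH0.le_preimage_top g ⊤) = g.appTop := by
        rw [Scheme.Hom.appTop, Scheme.Hom.app_eq_appLE]; rfl
      rw [PerfA.CechH0.str, h3]
      rfl
    rw [e1, e1, Scheme.Hom.comp_appTop]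
    rfl
  have hsurj : Function.Surjective r.appTop.hom := by
    intro y
    obtain ⟨c, rfl⟩ := hb.2 y
    exact ⟨_, (hcomp c).symm⟩
  have hnil : ∀ a, r.appTop.hom a = 0 → IsNilpotent a := by
    intro a ha
    rw [Scheme.isNilpotent_iff_basicOpen_eq_bot]
    ext x
    constructor
    · intro hx
      obtain ⟨y, rfl⟩ := r.surjective x
      have h1 : y ∈ r ⁻¹ᵁ X.basicOpen a := hx
      rw [Scheme.preimage_basicOpen_top, ha, Scheme.basicOpen_zero] at h1
      exact absurd h1 (by simp)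
    · intro hx
      exact absurd hx (by simp)
  obtain ⟨c, hc'⟩ := hb.2 (r.appTop.hom u)
  obtain ⟨d, hd⟩ := IsAlgClosed.exists_pow_nat_eq c (Nat.pos_of_ne_zero hn0)
  have hcu : IsUnit (PerfA.CechH0.str (r ≫ f) ⊤ c) := by
    rw [hc']
    exact u.isUnit.map _
  have hdu : IsUnit (PerfA.CechH0.str (r ≫ f) ⊤ d) := by
    rw [← hd, map_pow] at hcu
    exact (isUnit_pow_iff hn0).1 hcu
  obtain ⟨a, ha1, ha2⟩ := Old.H11.NthRoot.exists_root r.appTop.hom hsurj hnil
    (n := n) (by
      have := (IsUnit.mk0 _ hn).map (PerfA.CechH0.str (r ≫ f) ⊤)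
      rwa [map_natCast] at this) hdu (u := (u : Γ(X, ⊤))) (by rw [← hc', ← hd, map_pow])
  have hau : IsUnit a := by
    rw [← isUnit_pow_iff hn0, ha2]
    exact u.isUnit
  exact ⟨hau.unit, Units.ext (by simpa using ha2)⟩

theorem cok_H0 (f : X ⟶ Spec (CommRingCat.of k)) [IsProper f] [ConnectedSpace X] (n : ℕ)
    (hn : (n : k) ≠ 0) : cok n (EtCoh.H X (EtCoh.Gm X) 0) = 1 := by
  rw [← cok_congr n (unitsEquivH0 X), cok_eq_one_iff]
  intro m
  obtain ⟨v, hv⟩ := exists_root f n hn (Additive.toMul m)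
  exact ⟨Additive.ofMul v, by rw [← ofMul_pow, hv]; rfl⟩

theorem card_pic_tors (f : X ⟶ Spec (CommRingCat.of k)) [IsProper f] [ConnectedSpace X] (n : ℕ)
    (hn : (n : k) ≠ 0) : Nat.card {x : Grpsch.PicGrp.Pic X // x ^ n = 1} =
      Nat.card (EtCoh.H X (EtCoh.const X (ZMod n)) 1) := by
  obtain ⟨e⟩ := CurvesA.MuConst.nonempty_iso_const_mu_of_isSepClosed k n hn f
  let e1 : EtCoh.H X (EtCoh.const X (ZMod n)) 1 ≃+ EtCoh.H X (EtCoh.mu X n) 1 :=
    ((EtCoh.HF X 1).mapIso e).addCommGroupIsoToAddEquiv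
  rw [Nat.card_congr e1.toEquiv]
  have h := Etcore.KumCount.card_H_mu X n (Etcore.MuCard.epi_powMap X f n hn) 0
  rw [cok_H0 f n hn, one_mul] at h
  refine Eq.trans ?_ h.symm
  let p := CurvesA.H1GmPic.picEquiv X
  rw [tor_eq]
  refine Nat.card_congr ((Additive.ofMul.trans p.toEquiv).subtypeEquiv fun x => ?_)
  change x ^ n = 1 ↔ n • p (Additive.ofMul x) = 0
  rw [← map_nsmul, ← ofMul_pow, EmbeddingLike.map_eq_zero_iff]
  exact (Additive.ofMul.injective.eq_iff' rfl).symm

end K322.TorUnits
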