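import Groth.Agent.Curves.K322.PunctSum
import Groth.Agent.Curves.K322.TorUnits
import Groth.Agent.Curves.K322.TorSmooth
import Groth.Agent.AlgSp.K618.Sch
import Groth.Agent.Etcore.SmoothRed

/-!
# The `n`-torsion of the Picard group of a curve

`card_pic_tors_mul`: `#Pic(Z)[n] · n^(c + s) = n^(1 + b + 2a)` for `Z` proper connected of dimension `≤ 1` over an
algebraically closed field (possibly non-reduced), `ν : Z' ⟶ Z` finite with `Z'` smooth, a universal homeomorphism
outside `s` points with `b` points above them, `c` the number of components of `Z'` and `a = h¹(Z', O)`.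
-/

set_option autoImplicit false
universe u
open CategoryTheory CategoryTheory.Limits CategoryTheory.Abelian AlgebraicGeometry Opposite

namespace K322.TorCount

open Groth.Agent Groth.Agent.Sga4B.ConstLC Groth.Agent.Etcore.CompSES Groth.Agent.Etcore.CompH
open Groth.Agent.Models.H73 Groth.Agent.Models.H73.StalkCount Groth.Agent.Models.H73.CurveCount

variable {k : Type u} [Field k] [IsAlgClosed k] {Z Z' : Scheme.{u}}
    (f : Z ⟶ Spec (CommRingCat.of k)) [LocallyOfFiniteType f] (ν : Z' ⟶ Z) [IsFinite ν]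

include f in
/-- The number of rational points over a rational point. -/
theorem card_lifts (z : Z) (hz : IsClosed ({z} : Set Z)) (ξ : Spec (CommRingCat.of k) ⟶ Z)
    (hξ : ξ ≫ f = 𝟙 _) (hξz : ξ default = z) :
    Nat.card {ζ : Spec (CommRingCat.of k) ⟶ Z' // ζ ≫ ν = ξ} = (ν ⁻¹' {z}).ncard := by
  have hcl : ∀ w : Z', ν w = z → IsClosed ({w} : Set Z') := by
    intro w hw
    have h1 : IsClosed (ν ⁻¹' {z}) := hz.preimage ν.continuous
    have h2 : ({w} : Set Z') = closure {w} := by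
      apply subset_antisymm subset_closure
      intro v hv
      have h3 : w ⤳ v := specializes_iff_mem_closure.2 hv
      have h4 : ν v = z := h1.closure_subset_iff.2 (by simpa using hw) hv
      exact (K618.Sch.eq_of_specializes_of_eq ν h3 (hw.trans h4.symm)).symm
    rw [h2]
    exact isClosed_closure
  have hext : ∀ ζ ζ' : Spec (CommRingCat.of k) ⟶ Z, ζ ≫ f = 𝟙 _ → ζ' ≫ f = 𝟙 _ →
      ζ default = ζ' default → ζ = ζ' := fun ζ ζ' h h' e =>
    Groth.Agent.EtpbcA.GeomSplit.section_ext f ζ ζ' h h' e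
  have hlift : ∀ w : Z', ν w = z → ∃ ζ : Spec (CommRingCat.of k) ⟶ Z', ζ ≫ ν = ξ ∧
      ζ default = w := by
    intro w hw
    let ζ := pointOfClosedPoint (ν ≫ f) w (hcl w hw)
    have h1 : ζ ≫ (ν ≫ f) = 𝟙 _ := pointOfClosedPoint_comp (ν ≫ f) w _
    have h2 : ζ default = w := pointOfClosedPoint_apply (ν ≫ f) w _ _
    refine ⟨ζ, hext _ _ ?_ hξ ?_, h2⟩
    · rw [Category.assoc, h1]
    · rw [Scheme.Hom.comp_apply, h2, hw, hξz]
  have hmem : ∀ ζ : {ζ : Spec (CommRingCat.of k) ⟶ Z' // ζ ≫ ν = ξ}, ζ.1 default ∈ ν ⁻¹' {z} := by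
    intro ζ
    have h1 : ν (ζ.1 default) = z := by
      rw [← Scheme.Hom.comp_apply, ζ.2, hξz]
    exact h1
  have hb : Function.Bijective (fun ζ : {ζ : Spec (CommRingCat.of k) ⟶ Z' // ζ ≫ ν = ξ} =>
      (⟨ζ.1 default, hmem ζ⟩ : (ν ⁻¹' {z} : Set Z'))) := by
    constructor
    · rintro ⟨ζ, hζ⟩ ⟨ζ', hζ'⟩ h
      apply Subtype.ext
      refine Groth.Agent.EtpbcA.GeomSplit.section_ext (ν ≫ f) ζ ζ' ?_ ?_ (congrArg Subtype.val h)
      · rw [← Category.assoc, hζ, hξ]
      · rw [← Category.assoc, hζ', hξ]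
    · rintro ⟨w, hw⟩
      obtain ⟨ζ, h1, h2⟩ := hlift w hw
      exact ⟨⟨ζ, h1⟩, Subtype.ext h2⟩
  rw [Nat.card_congr (Equiv.ofBijective _ hb), Nat.card_coe_set_eq]

omit [IsFinite ν] in
include f in
theorem exists_data (hs : Function.Surjective ν) (U : Z.Opens) (hU : HomeoOver ν U)
    (hfin : ((U : Set Z)ᶜ).Finite) (hcl : ∀ x ∉ U, IsClosed ({x} : Set Z)) :
    ∃ D : Data (fam ν), (D.T : Set Z) = (U : Set Z)ᶜ := by
  classical
  refine ⟨
    { V := fun _ => U
      T := hfin.toFinset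
      homeo := fun _ => hU
      disj := fun i j hij => (hij (Subsingleton.elim _ _)).elim
      closed := fun x hx => hcl x (by simpa using hx)
      sepClosed := fun x hx =>
        CurvesA.ClosedPtSep.isSepClosed_residueField f x (hcl x (by simpa using hx))
      cover := fun x hx => ⟨0, by
        by_contra h
        exact hx (by simpa using h)⟩
      surj := fun x => ⟨0, hs x⟩ }, ?_⟩
  simp

variable (M : Type) [AddCommGroup M]

include f in
theorem card_H0_coker [Finite M] (D : Data (fam ν)) :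
    Nat.card (EtCoh.H Z (cokernel (φ (fam ν) (ULift.{u + 1} M))) 0) * Nat.card M ^ D.T.card =
      Nat.card M ^ (∑ x ∈ D.T, (ν ⁻¹' {x}).ncard) := by
  classical
  have hse := ses_shortExact (fam ν) M D
  have h1 : ∀ x : Z, ∃ c : ℕ, x ∈ D.T → (∃ ξ : Spec (CommRingCat.of k) ⟶ Z, ξ default = x ∧
      Nat.card ((EtCoh.stalk ξ).obj (cokernel (φ (fam ν) (ULift.{u + 1} M))) :
        AddCommGrpCat.{u + 1}) = c) ∧ c * Nat.card M = Nat.card M ^ (ν ⁻¹' {x}).ncard := by
    intro x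
    by_cases hx : x ∈ D.T
    · let ξ := pointOfClosedPoint f x (D.closed x hx)
      have e1 : ξ default = x := pointOfClosedPoint_apply f x _ _
      have e2 : ξ ≫ f = 𝟙 _ := pointOfClosedPoint_comp f x _
      refine ⟨_, fun _ => ⟨⟨ξ, e1, rfl⟩, ?_⟩⟩
      rw [card_stalk_coker_mul ν M ξ hse, card_lifts f ν x (D.closed x hx) ξ e2 e1]
    · exact ⟨0, fun h => absurd h hx⟩
  choose c hc using h1
  rw [PunctSum.card_H0 (Ω := k) c D.T D.closed D.sepClosed _ (supp_coker (fam ν) M D)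
    (fun x hx => (hc x hx).1), ← Finset.prod_const, ← Finset.prod_mul_distrib,
    ← Finset.prod_pow_eq_pow_sum]
  exact Finset.prod_congr rfl fun x hx => (hc x hx).2

include f in
theorem card_H1_mul [Finite M] (D : Data (fam ν)) :
    Nat.card (EtCoh.H Z' (EtCoh.const Z' M) 0) * Nat.card M ^ D.T.card *
        Nat.card (EtCoh.H Z (EtCoh.const Z M) 1) =
      Nat.card (EtCoh.H Z (EtCoh.const Z M) 0) * Nat.card M ^ (∑ x ∈ D.T, (ν ⁻¹' {x}).ncard) *
        Nat.card (EtCoh.H Z' (EtCoh.const Z' M) 1) := by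
  have h1 := card_formula ν M D
  have h2 := card_H0_coker f ν M D
  rw [← h2]
  calc _ = Nat.card M ^ D.T.card * (Nat.card (EtCoh.H Z' (EtCoh.const Z' M) 0) *
        Nat.card (EtCoh.H Z (EtCoh.const Z M) 1)) := by ring
    _ = _ := by rw [← h1]; ring

omit [LocallyOfFiniteType f] in
/-- `#Pic(Z)[n] · n^(c + s) = n^(1 + b + 2a)`. -/
theorem card_pic_tors_mul [IsProper f] [ConnectedSpace Z] (hs : Function.Surjective ν) [Smooth (ν ≫ f)]
    (U : Z.Opens) (hU : HomeoOver ν U) (hfin : ((U : Set Z)ᶜ).Finite)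
    (hcl : ∀ x ∉ U, IsClosed ({x} : Set Z))
    (hdim : topologicalKrullDim Z ≤ 1) (n : ℕ) (hn : (n : k) ≠ 0) :
    Nat.card {x : Grpsch.PicGrp.Pic Z // x ^ n = 1} *
      n ^ (Nat.card (_root_.ConnectedComponents Z') + ((U : Set Z)ᶜ).ncard) =
    n ^ (1 + (ν ⁻¹' (U : Set Z)ᶜ).ncard + 2 * Models.curveGenus k Z' (ν ≫ f)) := by
  have hn0 : 0 < n := Nat.pos_of_ne_zero (by rintro rfl; simp at hn)
  have : NeZero n := ⟨hn0.ne'⟩
  have hpr : IsProper (ν ≫ f) := inferInstance
  have : IsNoetherian Z' := CurvesA.ClosedPtSep.isNoetherian (ν ≫ f)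
  have : IsReduced Z' := Etcore.SmoothRed.isReduced_of_smooth (ν ≫ f)
  have hdim' := (PicCount.topologicalKrullDim_le ν).trans hdim
  obtain ⟨D, hD⟩ := exists_data f ν hs U hU hfin hcl
  have h1 := card_H1_mul f ν (ZMod n) D
  rw [Nat.card_zmod, SmoothCount.card_H0, Nat.card_zmod, PicCount.sum_ncard, hD] at h1
  have h2 : Nat.card (EtCoh.H Z (EtCoh.const Z (ZMod n)) 0) = n := by
    obtain ⟨e⟩ := Etrest.SHPoint.nonempty_H0_const Z (ZMod n)
    rw [Nat.card_congr e.toEquiv, Nat.card_zmod]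
  have h5 : D.T.card = ((U : Set Z)ᶜ).ncard := by
    rw [← hD, Set.ncard_coe_finset]
  rw [h2, h5, TorSmooth.card_H1 (ν ≫ f) hdim' n hn] at h1
  rw [TorUnits.card_pic_tors f n hn, pow_add, pow_add, pow_add, pow_one, ← h1]
  ring

end K322.TorCount
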