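import Groth.Agent.Curves.K322.BranchFib
import Groth.Agent.Sga4h.FinGen
import Groth.Agent.Flat2C.GenericReduced
import Mathlib.AlgebraicGeometry.Morphisms.ClosedImmersion

/-!
# The reduction of a scheme: factorizations and branches
-/

set_option autoImplicit false
universe u

open CategoryTheory CategoryTheory.Limits AlgebraicGeometry TopologicalSpace Opposite

namespace K322.TorRed

open Groth.Agent

/-- The reduction. -/
noncomputable abbrev red (X : Scheme.{u}) : Scheme.{u} := X.nilradical.subscheme

/-- The inclusion of the reduction. -/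
noncomputable abbrev ι (X : Scheme.{u}) : red X ⟶ X := X.nilradical.subschemeι

theorem isReduced (X : Scheme.{u}) : IsReduced (red X) := Flat2C.GenericReduced.isReduced_subscheme_nilradical X

theorem surj (X : Scheme.{u}) : Surjective (ι X) := Sga4h.FinGen.surjective_nilradical_subschemeι X

/-- The underlying homeomorphism. -/
noncomputable def homeo (X : Scheme.{u}) : red X ≃ₜ X :=
  (ι X).isClosedEmbedding.toIsEmbedding.toHomeomorph.trans
    ((Homeomorph.setCongr (surj X).surj.range_eq).trans (Homeomorph.Set.univ _))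

theorem homeo_apply (X : Scheme.{u}) (x : red X) : homeo X x = ι X x := rfl

theorem le_ker {X X' : Scheme.{u}} (π : X' ⟶ X) [QuasiCompact π] [IsReduced X'] : X.nilradical ≤ π.ker := by
  intro U a ha
  rw [Scheme.Hom.ker_apply, RingHom.mem_ker]
  have h1 : IsNilpotent a := by
    have h2 : a ∈ (⊥ : Ideal Γ(X, U)).radical := ha
    exact h2
  exact (h1.map (π.app U).hom).eq_zero

/-- The factorization of a morphism from a reduced scheme. -/
noncomputable def fac {X X' : Scheme.{u}} (π : X' ⟶ X) [QuasiCompact π] [IsReduced X'] : X' ⟶ red X :=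
  IsClosedImmersion.lift (ι X) π (by
    rw [Scheme.IdealSheafData.ker_subschemeι]
    exact le_ker π)

theorem fac_ι {X X' : Scheme.{u}} (π : X' ⟶ X) [QuasiCompact π] [IsReduced X'] : fac π ≫ ι X = π :=
  IsClosedImmersion.lift_fac _ _ _

/-- Sections killed on the reduction are nilpotent. -/
theorem isNilpotent_of_app (X : Scheme.{u}) {U : X.Opens} (hU : IsAffineOpen U) (a : Γ(X, U))
    (h : ((ι X).app U).hom a = 0) : IsNilpotent a := by
  have h1 : a ∈ (ι X).ker.ideal ⟨U, hU⟩ := by
    rw [Scheme.Hom.ker_apply, RingHom.mem_ker]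
    exact h
  rw [Scheme.IdealSheafData.ker_subschemeι] at h1
  have h2 : a ∈ (⊥ : Ideal Γ(X, U)).radical := h1
  exact h2

/-- The kernel on stalks. -/
theorem ker_stalkMap (X : Scheme.{u}) (y : red X) : RingHom.ker ((ι X).stalkMap y).hom = nilradical _ := by
  have hred := isReduced X
  apply le_antisymm
  · intro a ha
    rw [RingHom.mem_ker] at ha
    obtain ⟨U, hU, s, rfl⟩ := X.presheaf.exists_germ_eq a
    have h1 : (red X).presheaf.germ ((ι X) ⁻¹ᵁ U) y hU (((ι X).app U).hom s) = 0 := by
      rw [← ha]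
      exact (Scheme.Hom.germ_stalkMap_apply (ι X) U y hU s).symm
    have hyU : y ∈ (ι X) ⁻¹ᵁ U := hU
    obtain ⟨W, hyW, i, i', h2⟩ := (red X).presheaf.germ_eq y hyU hyU _ 0 (h1.trans (map_zero _).symm)
    rw [map_zero] at h2
    obtain ⟨W₁, hW₁⟩ := (ι X).isClosedEmbedding.toIsInducing.isOpen_iff.1 W.2
    have hyW₁ : (ι X) y ∈ W₁ := by
      have : y ∈ (ι X) ⁻¹' W₁ := hW₁.2 ▸ hyW
      exact this
    obtain ⟨V, hV, hyV, hVU⟩ := exists_isAffineOpen_mem_and_subset (X := X) (x := ι X y)
      (U := U ⊓ ⟨W₁, hW₁.1⟩) ⟨hU, hyW₁⟩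
    have hVU' : V ≤ U := hVU.trans inf_le_left
    have hVW : (ι X) ⁻¹ᵁ V ≤ W := fun z hz => by
      have h3 : z ∈ (ι X) ⁻¹' W₁ := (hVU hz).2
      rw [hW₁.2] at h3
      exact h3
    have h4 : ((ι X).app V).hom (X.presheaf.map (homOfLE hVU').op s) = 0 := by
      have h5 := ConcreteCategory.congr_hom ((ι X).naturality (homOfLE hVU').op) s
      refine h5.trans ?_
      have h6 : ∀ (j : (ι X) ⁻¹ᵁ V ⟶ (ι X) ⁻¹ᵁ U) , (red X).presheaf.map j.op (((ι X).app U).hom s) =
          (red X).presheaf.map (homOfLE hVW).op ((red X).presheaf.map i.op (((ι X).app U).hom s)) := by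
        intro j
        have h9 : (red X).presheaf.map j.op = (red X).presheaf.map i.op ≫ (red X).presheaf.map (homOfLE hVW).op := by
          rw [← Functor.map_comp]
          rfl
        exact ConcreteCategory.congr_hom h9 (((ι X).app U).hom s)
      refine (h6 _).trans ?_
      rw [h2, map_zero]
    have h7 := isNilpotent_of_app X hV _ h4
    have h8 : X.presheaf.germ U (ι X y) hU s = X.presheaf.germ V (ι X y) hyV (X.presheaf.map (homOfLE hVU').op s) :=
      (X.presheaf.germ_res_apply (homOfLE hVU') _ hyV s).symm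
    rw [mem_nilradical]
    rw [h8]
    exact h7.map (X.presheaf.germ V (ι X y) hyV).hom
  · intro a ha
    rw [RingHom.mem_ker]
    exact ((mem_nilradical.1 ha).map ((ι X).stalkMap y).hom).eq_zero

theorem numBranches_of_surjective (A B : Type u) [CommRing A] [CommRing B] [IsLocalRing A] [IsLocalRing B]
    [IsNoetherianRing A] [IsNoetherianRing B] [IsReduced B] (φ : A →+* B) (hφ : Function.Surjective φ)
    (hker : RingHom.ker φ = nilradical A) : Brnch.numBranches A = Brnch.numBranches B := by
  have e : CAlg2.red A ≃+* B :=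
    (Ideal.quotEquivOfEq hker.symm).trans (RingHom.quotientKerEquivOfSurjective hφ)
  obtain ⟨ε, -⟩ := K428.Wedge.exists_equiv e
  rw [K830.MultiCross.numBranches_eq_cl B]
  unfold Brnch.numBranches
  rw [if_pos (minimalPrimes.finite_of_isNoetherianRing A)]
  let ε' : MaximalSpectrum (CAlg2.normRed A) ≃ MaximalSpectrum (K421.NormCl.Cl B) :=
    { toFun := fun m => ⟨m.asIdeal.comap (ε.symm : K421.NormCl.Cl B →+* K421.NormCl.Cl (CAlg2.red A)), by
        have := m.isMaximal
        exact Ideal.comap_isMaximal_of_surjective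
          (ε.symm : K421.NormCl.Cl B →+* K421.NormCl.Cl (CAlg2.red A)) ε.symm.surjective⟩
      invFun := fun m => ⟨m.asIdeal.comap (ε : K421.NormCl.Cl (CAlg2.red A) →+* K421.NormCl.Cl B), by
        have := m.isMaximal
        exact Ideal.comap_isMaximal_of_surjective
          (ε : K421.NormCl.Cl (CAlg2.red A) →+* K421.NormCl.Cl B) ε.surjective⟩
      left_inv := fun m => by
        ext x
        change ε.symm (ε x) ∈ m.asIdeal ↔ _
        rw [ε.symm_apply_apply]
      right_inv := fun m => by
        ext x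
        change ε (ε.symm x) ∈ m.asIdeal ↔ _
        rw [ε.apply_symm_apply] }
  exact ENat.card_congr ε'

theorem numBranchesAt_red (X : Scheme.{u}) [IsLocallyNoetherian X] (y : red X) :
    Brnch.numBranchesAt X (ι X y) = Brnch.numBranchesAt (red X) y := by
  have hred := isReduced X
  have hN : IsLocallyNoetherian (red X) := LocallyOfFiniteType.isLocallyNoetherian (ι X)
  have : IsReduced ((red X).presheaf.stalk y) := inferInstance
  exact numBranches_of_surjective _ _ ((ι X).stalkMap y).hom ((ι X).stalkMap_surjective y) (ker_stalkMap X y)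

end K322.TorRed
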