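import Groth.Agent.Curves.K322.TorCount
import Groth.Agent.Curves.K322.TorRed
import Groth.Agent.Curves.K321.BranchGenus
import Groth.Agent.FBase.K106.IrrConn
import Groth.Agent.Ega2.SmoothBdry
import Groth.Agent.CalgA.SerreLocal
import Groth.Agent.Sga3C.IrrComp
import Groth.Agent.Curves.K314.PicCount

/-!
# The `n`-torsion of the Picard group of a curve in terms of its normalization

`facts`: geometry of the normalization of a possibly non-reduced proper curve; `main`: the count.
-/

set_option autoImplicit false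
universe u

open CategoryTheory CategoryTheory.Limits AlgebraicGeometry TopologicalSpace Opposite

namespace K322.TorMain

open Groth.Agent K322.TorRed Groth.Agent.Etcore.CompSES

/-- Normal curves over perfect fields are smooth. -/
theorem smooth_of_normal (k : Type u) [Field k] [PerfectField k] {X : Scheme.{u}}
    (pX : X ⟶ Spec (CommRingCat.of k)) [LocallyOfFiniteType pX]
    (hX : Pi1.IsNormalScheme X) (hdim : topologicalKrullDim X ≤ 1) : Smooth pX := by
  have hN : IsLocallyNoetherian X := LocallyOfFiniteType.isLocallyNoetherian pX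
  refine Ega2.SmoothBdry.smooth_of_regular pX fun x => ?_
  have hdom : IsDomain (X.presheaf.stalk x) := (hX x).1
  have hint : IsIntegrallyClosed (X.presheaf.stalk x) := (hX x).2
  exact CalgA.SerreLocal.isRegularLocalRing_of_isIntegrallyClosed
    ((CurvesA.DimOne.ringKrullDim_stalk_le X x).trans hdim)

/-- The homeomorphism on irreducible components. -/
theorem closure_mem_iff {S T : Type u} [TopologicalSpace S] [TopologicalSpace T] (e : S ≃ₜ T) (s : S) :
    closure ({e s} : Set T) ∈ irreducibleComponents T ↔ closure ({s} : Set S) ∈ irreducibleComponents S := by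
  have h1 : closure ({e s} : Set T) = e '' closure ({s} : Set S) := by
    rw [e.image_closure, Set.image_singleton]
  rw [h1]
  constructor
  · intro h
    have h2 := Sga3C.IrrComp.homeomorph_image_mem_irreducibleComponents e.symm h
    rwa [← Set.image_comp, e.symm_comp_self, Set.image_id] at h2
  · exact Sga3C.IrrComp.homeomorph_image_mem_irreducibleComponents e

/-- One point in the fibre over a point of an open set over which the morphism is bijective. -/
theorem ncard_fibre {X X' : Scheme.{u}} (π : X' ⟶ X) (U : X.Opens) (hU : HomeoOver π U) (x : X) (hx : x ∈ U) :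
    (π ⁻¹' {x}).ncard = 1 := by
  have hι : ∀ y : (π ⁻¹ᵁ U : X'.Opens), ((π ∣_ U) y).1 = π y.1 := by
    intro y
    exact congrArg (fun g => g.base y) (morphismRestrict_ι π U)
  rw [Set.ncard_eq_one]
  have hs := hU.surj
  have hi := hU.inj
  obtain ⟨y, hy⟩ := (π ∣_ U).surjective ⟨x, hx⟩
  refine ⟨y.1, ?_⟩
  ext z
  constructor
  · intro hz
    have hz' : π z = x := hz
    have hzU : z ∈ π ⁻¹ᵁ U := by
      change π z ∈ U
      rw [hz']
      exact hx
    have h1 : (π ∣_ U) ⟨z, hzU⟩ = (π ∣_ U) y := by
      apply Subtype.ext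
      rw [hι, hι, ← hι y, hy]
      exact hz'
    exact congrArg Subtype.val ((π ∣_ U).injective h1)
  · rintro rfl
    change π y.1 = x
    rw [← hι y, hy]

variable (k : Type u) [Field k] [IsAlgClosed k] (X : Scheme.{u}) [X.Over (Spec (CommRingCat.of k))]
  [IsProper (X ↘ Spec (CommRingCat.of k))] (X' : Scheme.{u}) (π : X' ⟶ X) [IsFinite π]

omit [IsAlgClosed k] in
include k in
/-- Geometry of the normalization. -/
theorem facts (hequi : ∀ Z ∈ irreducibleComponents (X : Type u), topologicalKrullDim Z = 1)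
    (hX' : Pi1.IsNormalScheme X')
    (hbij : Set.BijOn (fun x' : X' => π x') {x' : X' | closure ({x'} : Set X') ∈ irreducibleComponents (X' : Type u)}
      {x : X | closure ({x} : Set X) ∈ irreducibleComponents (X : Type u)})
    (hres : ∀ x' : X', closure ({x'} : Set X') ∈ irreducibleComponents (X' : Type u) →
      Function.Bijective (π.residueFieldMap x').hom) :
    ∃ U : X.Opens, Function.Surjective π ∧ HomeoOver π U ∧ ((U : Set X)ᶜ).Finite ∧
      (∀ x ∉ U, IsClosed ({x} : Set X)) ∧
      ∀ x : X, (Brnch.numBranchesAt X x).toNat = (π ⁻¹' {x}).ncard := by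
  let f := X ↘ Spec (CommRingCat.of k)
  have : IsLocallyNoetherian X := LocallyOfFiniteType.isLocallyNoetherian f
  have : CompactSpace X := QuasiCompact.compactSpace_of_compactSpace f
  have : IsNoetherian X := ⟨⟩
  have : NoetherianSpace X := inferInstance
  have hredX' : IsReduced X' := K321.DeltaGeo.isReduced_of_isNormal hX'
  have hred : IsReduced (red X) := TorRed.isReduced X
  have hsurjι := surj X
  let π₀ := fac π
  have hπ₀ : π₀ ≫ ι X = π := fac_ι π
  have hfin₀ : IsFinite π₀ := by
    have h1 : IsFinite (π₀ ≫ ι X) := by rw [hπ₀]; infer_instance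
    exact MorphismProperty.of_postcomp (W := @IsFinite) (W' := @IsSeparated) π₀ (ι X) inferInstance h1
  have hval : ∀ x', ι X (π₀ x') = π x' := fun x' => by
    rw [← Scheme.Hom.comp_apply, hπ₀]
  let _ : (red X).Over (Spec (CommRingCat.of k)) := ⟨ι X ≫ f⟩
  have hprop : IsProper (red X ↘ Spec (CommRingCat.of k)) := inferInstanceAs (IsProper (ι X ≫ f))
  have : IsLocallyNoetherian (red X) := LocallyOfFiniteType.isLocallyNoetherian (ι X)
  have : CompactSpace (red X) := QuasiCompact.compactSpace_of_compactSpace (ι X)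
  have : IsNoetherian (red X) := ⟨⟩
  have : NoetherianSpace (red X) := inferInstance
  have : IsLocallyNoetherian X' := LocallyOfFiniteType.isLocallyNoetherian π
  have : CompactSpace X' := QuasiCompact.compactSpace_of_compactSpace π
  have : IsNoetherian X' := ⟨⟩
  have : NoetherianSpace X' := inferInstance
  have hequi₀ : ∀ Z ∈ irreducibleComponents (red X : Type u), topologicalKrullDim Z = 1 := by
    intro Z hZ
    have h1 := hequi _ (Sga3C.IrrComp.homeomorph_image_mem_irreducibleComponents (homeo X) hZ)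
    rw [← h1]
    exact IsHomeomorph.topologicalKrullDim_eq _ ((homeo X).image Z).isHomeomorph
  have hbij₀ : Set.BijOn (fun x' : X' => π₀ x') {x' : X' | closure ({x'} : Set X') ∈ irreducibleComponents (X' : Type u)}
      {x : red X | closure ({x} : Set (red X)) ∈ irreducibleComponents (red X : Type u)} := by
    refine ⟨fun x' hx' => ?_, fun x' hx' y' hy' h => hbij.2.1 hx' hy' ?_, fun y hy => ?_⟩
    · have h1 := hbij.1 hx'
      refine (closure_mem_iff (homeo X) (π₀ x')).1 ?_
      rw [homeo_apply, hval]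
      exact h1
    · change π x' = π y'
      rw [← hval, ← hval]
      exact congrArg (ι X) h
    · have h1 := (closure_mem_iff (homeo X) y).2 hy
      obtain ⟨x', hx', h2⟩ := hbij.2.2 h1
      refine ⟨x', hx', (homeo X).injective ?_⟩
      rw [homeo_apply, hval]
      exact h2
  have hres₀ : ∀ x' : X', closure ({x'} : Set X') ∈ irreducibleComponents (X' : Type u) →
      Function.Bijective (π₀.residueFieldMap x').hom := by
    intro x' hx'
    refine ⟨(π₀.residueFieldMap x').hom.injective, ?_⟩
    have h1 : Function.Surjective ((π₀ ≫ ι X).residueFieldMap x').hom := by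
      rw [hπ₀]
      exact (hres x' hx').2
    rw [Scheme.residueFieldMap_comp] at h1
    intro b
    obtain ⟨a, ha⟩ := h1 b
    exact ⟨((ι X).residueFieldMap (π₀ x')).hom a, ha⟩
  obtain ⟨V, hV, hiso⟩ := S9679.result π₀ NoetherianSpace.finite_irreducibleComponents
    NoetherianSpace.finite_irreducibleComponents hbij₀
    (fun x' hx' => K321.BranchGenus.isIso_stalkMap π₀ x' hx' (hbij₀.1 hx') (hres₀ x' hx')) (Or.inl inferInstance)
    (Or.inl ⟨inferInstance, inferInstance⟩)
  have hV' : Dense ((π₀ ⁻¹ᵁ V : X'.Opens) : Set X') :=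
    K321.BranchGenus.dense_of_generic _ fun η hη => K321.DeltaSum.generic_mem hV V.2 (hbij₀.1 hη)
  let U : X.Opens := Sga4h.FinGen.imageOpen (ι X) V
  have hUV : ι X ⁻¹ᵁ U = V := Sga4h.FinGen.preimage_imageOpen (ι X) V
  have hmem : ∀ y : red X, y ∈ V ↔ ι X y ∈ U := fun y => by
    rw [← hUV]
    rfl
  have hsurj : Function.Surjective π := (K321.BranchGenus.surjective π hbij).surj
  have hpts : ∀ y : red X, y ∉ V → IsClosed ({y} : Set (red X)) := fun y hy =>
    (K321.DeltaSum.points k (red X) hequi₀ V hV y hy).1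
  have hfinV : ((V : Set (red X))ᶜ).Finite := CycB.DegIntegral.finite_of_isClosed_points V.2.isClosed_compl
    (fun y hy => hpts y hy)
  have hhomeo : HomeoOver (π₀ ≫ ι X) U := by
    have hi : IsIso (π₀ ∣_ (ι X ⁻¹ᵁ U)) := by rw [hUV]; exact hiso
    have e := morphismRestrict_comp π₀ (ι X) U
    have h1 : UniversallyInjective (ι X ∣_ U) := inferInstance
    have h2 : Surjective (ι X ∣_ U) :=
      MorphismProperty.of_isPullback (isPullback_morphismRestrict (ι X) U).flip hsurjι
    refine ⟨?_, ?_⟩
    · rw [e]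
      exact MorphismProperty.comp_mem _ _ _ inferInstance h1
    · rw [e]
      exact MorphismProperty.comp_mem _ _ _ inferInstance h2
  refine ⟨U, hsurj, hπ₀ ▸ hhomeo, ?_, ?_, ?_⟩
  · refine (hfinV.image (ι X)).subset fun x hx => ?_
    obtain ⟨y, rfl⟩ := (ι X).surjective x
    exact ⟨y, fun hy => hx ((hmem y).1 hy), rfl⟩
  · intro x hx
    obtain ⟨y, rfl⟩ := (ι X).surjective x
    have h1 := (homeo X).isClosedMap _ (hpts y fun hy => hx ((hmem y).1 hy))
    rw [Set.image_singleton] at h1
    exact h1
  · intro x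
    obtain ⟨y, rfl⟩ := (ι X).surjective x
    have h1 := BranchFib.numBranchesAt_eq π₀ hX' V hV hV' y
    rw [numBranchesAt_red X y, h1]
    have h2 : π ⁻¹' {ι X y} = π₀ ⁻¹' {y} := by
      ext z
      change π z = ι X y ↔ π₀ z = y
      rw [← hval]
      exact ⟨fun h => (homeo X).injective h, fun h => congrArg _ h⟩
    rw [h2]
    rfl

/-- Numerics. -/
theorem numeric {n P c s b a : ℕ} (hn : 0 < n) (h : P * n ^ (c + s) = n ^ (1 + b + 2 * a))
    (hle : c + s ≤ 1 + b + 2 * a) : P = n ^ (1 + b + 2 * a - (c + s)) := by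
  have h1 : n ^ (1 + b + 2 * a) = n ^ (1 + b + 2 * a - (c + s)) * n ^ (c + s) := by
    rw [← pow_add, Nat.sub_add_cancel hle]
  rw [h1] at h
  exact Nat.eq_of_mul_eq_mul_right (pow_pos hn _) h

theorem le_of {n P c s b a : ℕ} (hn : 1 < n) (h : P * n ^ (c + s) = n ^ (1 + b + 2 * a)) :
    c + s ≤ 1 + b + 2 * a := by
  have hP : P ≠ 0 := by
    rintro rfl
    rw [zero_mul] at h
    exact absurd h.symm (pow_pos (by omega) _).ne'
  refine (Nat.pow_le_pow_iff_right hn).1 ?_
  calc n ^ (c + s) ≤ P * n ^ (c + s) := Nat.le_mul_of_pos_left _ (Nat.pos_of_ne_zero hP)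
    _ = _ := h

omit [IsAlgClosed k] in
/-- One of `2` and `3` is invertible. -/
theorem exists_invertible : ∃ n : ℕ, 1 < n ∧ (n : k) ≠ 0 := by
  by_cases h : ((2 : ℕ) : k) = 0
  · refine ⟨3, by norm_num, fun h3 => ?_⟩
    have h4 : (1 : k) = 0 := by
      have : ((3 : ℕ) : k) = ((2 : ℕ) : k) + 1 := by norm_num
      rw [h3, h, zero_add] at this
      exact this.symm
    exact one_ne_zero h4
  · exact ⟨2, by norm_num, h⟩

open Classical in
/-- **The count.** -/
theorem main (hequi : ∀ Z ∈ irreducibleComponents (X : Type u), topologicalKrullDim Z = 1) [ConnectedSpace X]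
    (hX' : Pi1.IsNormalScheme X')
    (hbij : Set.BijOn (fun x' : X' => π x') {x' : X' | closure ({x'} : Set X') ∈ irreducibleComponents (X' : Type u)}
      {x : X | closure ({x} : Set X) ∈ irreducibleComponents (X : Type u)})
    (hres : ∀ x' : X', closure ({x'} : Set X') ∈ irreducibleComponents (X' : Type u) →
      Function.Bijective (π.residueFieldMap x').hom)
    (n : ℕ) (hn : IsUnit (n : k)) :
    letI : X'.Over (Spec (CommRingCat.of k)) := ⟨π ≫ (X ↘ (Spec (CommRingCat.of k)))⟩
    letI T : ℤ := (∑ᶠ x : X, (if IsClosed ({x} : Set X) then (((Brnch.numBranchesAt X x).toNat : ℤ) - 1) else 0)) -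
        (Nat.card (irreducibleComponents (X : Type u)) : ℤ) + 1 + 2 * (Curv2.genus k X' : ℤ)
    0 ≤ T ∧
      Nat.card {c : PicF.Cl X | ∃ M : X.Modules, PicF.cl M = c ∧ PicF.IsInvertible M ∧
          Nonempty (CohB1.tensorPow M n ≅ Coh.structureModule X)} = n ^ T.toNat := by
  let f := X ↘ Spec (CommRingCat.of k)
  let _ : X'.Over (Spec (CommRingCat.of k)) := ⟨π ≫ f⟩
  let T : ℤ := (∑ᶠ x : X, (if IsClosed ({x} : Set X) then (((Brnch.numBranchesAt X x).toNat : ℤ) - 1) else 0)) -
        (Nat.card (irreducibleComponents (X : Type u)) : ℤ) + 1 + 2 * (Curv2.genus k X' : ℤ)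
  change 0 ≤ T ∧ _ = n ^ T.toNat
  obtain ⟨U, hsurj, hU, hfin, hcl, hm⟩ := facts k X X' π hequi hX' hbij hres
  have : IsLocallyNoetherian X := LocallyOfFiniteType.isLocallyNoetherian f
  have : CompactSpace X := QuasiCompact.compactSpace_of_compactSpace f
  have : IsNoetherian X := ⟨⟩
  have : NoetherianSpace X := inferInstance
  have : IsLocallyNoetherian X' := LocallyOfFiniteType.isLocallyNoetherian π
  have : CompactSpace X' := QuasiCompact.compactSpace_of_compactSpace π
  have : IsNoetherian X' := ⟨⟩
  have : NoetherianSpace X' := inferInstance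
  have hdim : topologicalKrullDim X ≤ 1 := by
    rw [VarietyB.DimTop.topologicalKrullDim_eq_iSup_irreducibleComponents]
    exact iSup_le fun Z => (hequi Z.1 Z.2).le
  have hsm : Smooth (π ≫ f) := smooth_of_normal k (π ≫ f) hX'
    ((Models.H73.PicCount.topologicalKrullDim_le π).trans hdim)
  -- components
  have hc1 : Nat.card (irreducibleComponents (X' : Type u)) = Nat.card (irreducibleComponents (X : Type u)) :=
    Nat.card_congr ((K321.BranchGenus.genEquiv X').symm.trans
      ((Set.BijOn.equiv _ hbij).trans (K321.BranchGenus.genEquiv X)))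
  have hfinX' : Finite (irreducibleComponents (X' : Type u)) :=
    NoetherianSpace.finite_irreducibleComponents
  have hc2 : Nat.card (irreducibleComponents (X' : Type u)) = Nat.card (_root_.ConnectedComponents X') :=
    (K106.IrrConn.card_eq_iff).2 ((K106.IrrConn.forall_isDomain_stalk_iff X').1 fun x => (hX' x).1).2
  have key : ∀ m : ℕ, (m : k) ≠ 0 → Nat.card {x : Grpsch.PicGrp.Pic X // x ^ m = 1} *
      m ^ (Nat.card (irreducibleComponents (X : Type u)) + ((U : Set X)ᶜ).ncard) =
      m ^ (1 + (π ⁻¹' (U : Set X)ᶜ).ncard + 2 * Models.curveGenus k X' (π ≫ f)) := by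
    intro m hm'
    have h := TorCount.card_pic_tors_mul f π hsurj U hU hfin hcl hdim m hm'
    rwa [← hc2, hc1] at h
  -- the sum
  have hs : (∑ᶠ x : X, (if IsClosed ({x} : Set X) then (((Brnch.numBranchesAt X x).toNat : ℤ) - 1) else 0)) =
      ((π ⁻¹' (U : Set X)ᶜ).ncard : ℤ) - (((U : Set X)ᶜ).ncard : ℤ) := by
    rw [finsum_eq_sum_of_support_subset (s := hfin.toFinset)]
    · have h1 : ∀ x ∈ hfin.toFinset, (if IsClosed ({x} : Set X) then
          (((Brnch.numBranchesAt X x).toNat : ℤ) - 1) else 0) = ((π ⁻¹' {x}).ncard : ℤ) - 1 := by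
        intro x hx
        rw [Set.Finite.mem_toFinset] at hx
        rw [if_pos (hcl x hx), hm x]
      rw [Finset.sum_congr rfl h1, Finset.sum_sub_distrib, ← Nat.cast_sum,
        Models.H73.PicCount.sum_ncard, Set.Finite.coe_toFinset, Finset.sum_const, nsmul_one,
        Set.ncard_eq_toFinset_card _ hfin]
    · intro x hx
      rw [Set.Finite.coe_toFinset]
      intro hxU
      apply hx
      dsimp only
      split_ifs with hc
      · rw [hm x, ncard_fibre π U hU x hxU]
        simp
      · rfl
  have hT : T = ((1 + (π ⁻¹' (U : Set X)ᶜ).ncard + 2 * Models.curveGenus k X' (π ≫ f) : ℕ) : ℤ) -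
      ((Nat.card (irreducibleComponents (X : Type u)) + ((U : Set X)ᶜ).ncard : ℕ) : ℤ) := by
    change (∑ᶠ x : X, (if IsClosed ({x} : Set X) then (((Brnch.numBranchesAt X x).toNat : ℤ) - 1) else 0)) -
        (Nat.card (irreducibleComponents (X : Type u)) : ℤ) + 1 + 2 * (Curv2.genus k X' : ℤ) = _
    rw [hs]
    have hg : Curv2.genus k X' = Models.curveGenus k X' (π ≫ f) := rfl
    rw [hg]
    push_cast
    ring
  obtain ⟨m, hm1, hm2⟩ := exists_invertible k
  have hle := le_of hm1 (key m hm2)
  have hn0 : (n : k) ≠ 0 := hn.ne_zero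
  have hnpos : 0 < n := Nat.pos_of_ne_zero (by rintro rfl; simp at hn0)
  refine ⟨by rw [hT]; omega, ?_⟩
  rw [K314.PicCount.card_eq, numeric hnpos (key n hn0) hle]
  congr 1
  rw [hT]
  omega

end K322.TorMain
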